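import Cfsg.Agent.CIT.L34

/-! A collineation group of the projective plane of order 4 without subgroups of index 2 embeds in `PGL₃(4)`. -/

set_option autoImplicit false

namespace Cfsg.Agent.L34S

open Cfsg.Agent.Comp Cfsg.Agent.Golay MulAction Subgroup Projectivization
open scoped LinearAlgebra.Projectivization Pointwise

section plane
variable {F : Type*} [Field F] [Fintype F]

open Classical in
/-- The points of the projective plane on a subspace. -/
noncomputable def pts (W : Submodule F (Fin 3 → F)) : Finset (ℙ F (Fin 3 → F)) :=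
  (Set.toFinite {p : ℙ F (Fin 3 → F) | p.rep ∈ W}).toFinset

theorem mem_pts {W : Submodule F (Fin 3 → F)} {p : ℙ F (Fin 3 → F)} : p ∈ pts W ↔ p.rep ∈ W := by
  simp [pts]

theorem mk_mem_pts {W : Submodule F (Fin 3 → F)} {v : Fin 3 → F} (hv : v ≠ 0) :
    Projectivization.mk F v hv ∈ pts W ↔ v ∈ W := by
  rw [mem_pts]
  obtain ⟨a, ha⟩ := Projectivization.exists_smul_eq_mk_rep F v hv
  rw [← ha, Units.smul_def, W.smul_mem_iff a.ne_zero]

theorem card_pts {W : Submodule F (Fin 3 → F)} (hW : Module.finrank F W = 2) :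
    (pts W).card = Fintype.card F + 1 := by
  have h1 := Projectivization.card_of_finrank_two F W hW
  rw [Nat.card_eq_fintype_card (α := F)] at h1
  rw [← h1, ← Fintype.card_coe, ← Nat.card_eq_fintype_card]
  refine (Nat.card_congr (Equiv.ofBijective (fun p : ℙ F W =>
    (⟨p.map W.subtype W.injective_subtype, ?_⟩ : pts W)) ⟨fun p q e => ?_, fun p => ?_⟩)).symm
  · induction p using Projectivization.ind with | _ v hv =>
    rw [Projectivization.map_mk, mk_mem_pts]; exact v.2
  · exact Projectivization.map_injective _ W.injective_subtype (congrArg Subtype.val e)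
  · obtain ⟨p, hp⟩ := p
    induction p using Projectivization.ind with | _ v hv =>
    rw [mk_mem_pts] at hp
    exact ⟨Projectivization.mk F ⟨v, hp⟩ (fun e => hv (congrArg Subtype.val e)), Subtype.ext (by
      simp [Projectivization.map_mk])⟩

/-- The lines of the projective plane. -/
def lines (F : Type*) [Field F] [Fintype F] : Set (Finset (ℙ F (Fin 3 → F))) :=
  {s | ∃ W : Submodule F (Fin 3 → F), Module.finrank F W = 2 ∧ s = pts W}

theorem steiner_lines : IsSteinerSystem 2 (Fintype.card F + 1) (lines F) := by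
  classical
  refine ⟨?_, fun s hs => ?_⟩
  · rintro _ ⟨W, hW, rfl⟩; exact card_pts hW
  · obtain ⟨p, q, pq, rfl⟩ := Finset.card_eq_two.1 hs
    have li := linearIndependent_pair_iff_ne.2 pq
    have h2 : Module.finrank F (Submodule.span F (Set.range ![p.rep, q.rep])) = 2 := by
      rw [finrank_span_eq_card li]; simp
    refine ⟨pts (Submodule.span F (Set.range ![p.rep, q.rep])), ⟨⟨_, h2, rfl⟩, ?_⟩, ?_⟩
    · simp only [Finset.insert_subset_iff, Finset.singleton_subset_iff, mem_pts]
      exact ⟨Submodule.subset_span ⟨0, rfl⟩, Submodule.subset_span ⟨1, rfl⟩⟩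
    · rintro _ ⟨⟨W, hW, rfl⟩, h⟩
      simp only [Finset.insert_subset_iff, Finset.singleton_subset_iff, mem_pts] at h
      congr 1
      refine (Submodule.eq_of_le_of_finrank_eq ?_ (h2.trans hW.symm)).symm
      rw [Submodule.span_le]
      rintro _ ⟨i, rfl⟩
      fin_cases i
      exacts [h.1, h.2]

theorem gl_ker : (toPermHom (GL (Fin 3) F) (ℙ F (Fin 3 → F))).ker = center (GL (Fin 3) F) := by
  ext m
  simp only [MonoidHom.mem_ker, toPermHom_apply, Equiv.Perm.one_def, DFunLike.ext_iff, toPerm_apply,
    Equiv.refl_apply, Matrix.GeneralLinearGroup.mem_center_iff_val_mem_range_scalar]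
  refine ⟨fun hm => ?_, fun ⟨r, hr⟩ l => ?_⟩
  · set f : (Fin 3 → F) →ₗ[F] Fin 3 → F := Matrix.toLin' m.1 with hf
    obtain ⟨a, ha⟩ := f.exists_eq_smul_id_of_forall_notLinearIndependent fun (v : Fin 3 → F) => by
      by_cases hv : v = 0
      · simp [hv, linearIndependent_fin2]
      · have := hm (.mk F v hv)
        rw [smul_mk, mk_eq_mk_iff'] at this
        obtain ⟨c, hc⟩ := this
        rw [LinearIndependent.pair_iff' hv]
        exact fun h => h c hc
    refine ⟨a, ?_⟩
    have : m.1 = LinearMap.toMatrix' f := by rw [hf, LinearMap.toMatrix'_toLin']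
    rw [this, ha]
    exact (LinearMap.toMatrix'_algebraMap a).symm
  · induction l using Projectivization.ind with | _ v hv =>
    simp only [smul_mk, mk_eq_mk_iff']
    refine ⟨r, ?_⟩
    change _ = m.1.mulVec v
    simp [← hr]

theorem gl_lines [DecidableEq (ℙ F (Fin 3 → F))] (g : GL (Fin 3) F) :
    toPermHom (GL (Fin 3) F) (ℙ F (Fin 3 → F)) g ∈ setSystemAut (lines F) := by
  refine mem_setSystemAut_of (Set.toFinite _) ?_
  rintro _ ⟨W, hW, rfl⟩
  let e : (Fin 3 → F) ≃ₗ[F] (Fin 3 → F) := DistribMulAction.toLinearEquiv F _ g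
  refine ⟨W.map e.toLinearMap, by rw [LinearEquiv.finrank_map_eq, hW], Finset.ext fun p => ?_⟩
  rw [← Finset.inv_smul_mem_iff]
  induction p using Projectivization.ind with | _ v hv =>
  have : (toPermHom (GL (Fin 3) F) (ℙ F (Fin 3 → F)) g)⁻¹ • Projectivization.mk F v hv =
      g⁻¹ • Projectivization.mk F v hv := by rw [← map_inv]; rfl
  rw [this, smul_mk, mk_mem_pts, mk_mem_pts, Submodule.mem_map_equiv]
  rfl

theorem card_pgl3 (hF : Fintype.card F = 4) :
    Nat.card (GL (Fin 3) F ⧸ center (GL (Fin 3) F)) = 60480 := by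
  have h1 : Nat.card (GL (Fin 3) F) = 181440 := by
    rw [Matrix.card_GL_field, hF]; decide
  have h2 : Nat.card (center (GL (Fin 3) F)) = 3 := by
    classical
    rw [Matrix.GeneralLinearGroup.center_eq_range_scalar, ← Nat.card_congr (MonoidHom.ofInjective ?_).toEquiv,
      Nat.card_eq_fintype_card, Fintype.card_units, hF]
    intro a b e
    have := congrArg (fun m : GL (Fin 3) F => m.1 0 0) e
    exact Units.ext (by simpa using this)
  have := card_eq_card_quotient_mul_card_subgroup (center (GL (Fin 3) F))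
  rw [h1, h2] at this
  omega

end plane

theorem pgl_of_steiner {G : Type*} [Group G] {α : Type*} [Fintype α] [DecidableEq α] (hα : Fintype.card α = 21)
    {B : Set (Finset α)} (hB : IsSteinerSystem 2 5 B) (φ : G →* Equiv.Perm α) (hφ : Function.Injective φ)
    (hB' : ∀ g, φ g ∈ setSystemAut B) (h2 : ∀ H : Subgroup G, H.index ≠ 2)
    {F : Type*} [Field F] [Fintype F] (hF : Fintype.card F = 4) :
    ∃ f : G →* GL (Fin 3) F ⧸ center (GL (Fin 3) F), Function.Injective f := by
  classical
  let β := ℙ F (Fin 3 → F)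
  letI : Fintype β := Fintype.ofFinite β
  have hβ : Fintype.card β = 21 := by
    rw [← Nat.card_eq_fintype_card, Projectivization.card_of_finrank F (Fin 3 → F) (n := 3) (by simp),
      Nat.card_eq_fintype_card, hF]
    decide
  have hL : IsSteinerSystem 2 5 (lines F) := by
    have := steiner_lines (F := F); rwa [hF] at this
  obtain ⟨E, hE⟩ := uniq21 hα hB
  obtain ⟨E', hE'⟩ := uniq21 hβ hL
  obtain ⟨e, he⟩ : SetSystemIso B (lines F) := hE ▸ hE' ▸ setSystemIso_sysOf E E' _
  let φ' : G →* Equiv.Perm β := e.permCongrHom.toMonoidHom.comp φ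
  have hφ' : Function.Injective φ' := e.permCongrHom.injective.comp hφ
  have hA : ∀ g, φ' g ∈ setSystemAut (lines F) := fun g => by
    refine mem_setSystemAut_of (Set.toFinite _) ?_
    rw [← he]
    rintro _ ⟨b, hb, rfl⟩
    have h1 : φ g • b ∈ B := by
      have := hB' g
      rw [mem_stabilizer_iff] at this
      rw [← this]; exact Set.smul_mem_smul_set hb
    refine ⟨_, h1, ?_⟩
    simp only [Finset.smul_finset_def, Finset.image_image]
    refine Finset.image_congr fun x _ => ?_
    simp [φ']
  let ψ : GL (Fin 3) F ⧸ center (GL (Fin 3) F) →* Equiv.Perm β :=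
    QuotientGroup.lift _ (toPermHom (GL (Fin 3) F) β) (le_of_eq gl_ker.symm)
  have hψ : Function.Injective ψ := (QuotientGroup.injective_lift_iff _ _ _).2 gl_ker.symm
  have hM : ψ.range ≤ setSystemAut (lines F) := by
    rintro _ ⟨g, rfl⟩
    obtain ⟨g, rfl⟩ := QuotientGroup.mk_surjective g
    exact gl_lines g
  have hc : Nat.card ψ.range = 60480 := (Nat.card_congr (MonoidHom.ofInjective hψ).toEquiv).symm.trans (card_pgl3 hF)
  have hi : ψ.range.relIndex (setSystemAut (lines F)) = 2 := by
    have := (ψ.range.subgroupOf (setSystemAut (lines F))).card_mul_index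
    rw [Nat.card_congr (subgroupOfEquivOfLe hM).toEquiv, hc, show Nat.card (setSystemAut (lines F)) = 120960 from
      hE' ▸ (card_closure21 E').1] at this
    unfold relIndex; omega
  have h1 : ψ.range.comap φ' = ⊤ := by
    have h3 := relIndex_le_of_le_right (H := ψ.range) (show φ'.range ≤ _ by rintro _ ⟨g, rfl⟩; exact hA g) (by omega)
    have h4 := h2 (ψ.range.comap φ')
    have h5 : ψ.range.relIndex φ'.range ≠ 0 := index_ne_zero_of_finite
    rw [← index_eq_one]
    rw [index_comap] at h4 ⊢
    omega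
  refine ⟨(MonoidHom.ofInjective hψ).symm.toMonoidHom.comp
    (φ'.codRestrict ψ.range fun g => (h1 ▸ mem_top g : g ∈ ψ.range.comap φ')), ?_⟩
  exact (MonoidHom.ofInjective hψ).symm.injective.comp fun a b h => hφ' (congrArg Subtype.val h)

end Cfsg.Agent.L34S
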