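import Cfsg.Agent.L34S.A
import Cfsg.Agent.L34S.P4
import Cfsg.Agent.CIT.Plane

/-! Sylow 2-subgroups of type `L₃(4)`, 2-closed involution centralizers, one class of involutions: the conjugates of
`A` and `B` form a projective plane of order 4 (`Fr.plane`). -/

set_option autoImplicit false
set_option linter.unusedSectionVars false

namespace Cfsg.Agent.L34S

open Cfsg.Agent.BG Cfsg.Agent.CIT Subgroup

theorem perm5 : ∀ a b : Equiv.Perm (Fin 5), a ^ 5 = 1 → a ≠ 1 → b ^ 3 = 1 → b ≠ 1 →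
    ∃ i : Fin 5, (b * a ^ i.1) ^ 2 = 1 := by decide +kernel

theorem odd5 {α : Type*} [Finite α] (hα : Nat.card α = 5) (H : Subgroup (Equiv.Perm α)) (o : Odd (Nat.card H)) :
    Nat.card H ≤ 14 := by
  classical
  have := Fintype.ofFinite α
  let e : α ≃ Fin 5 := Finite.equivFinOfCardEq hα
  have c : Nat.card (Equiv.Perm α) = 120 := by
    rw [Nat.card_eq_fintype_card, Fintype.card_perm, ← Nat.card_eq_fintype_card, hα]; rfl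
  have d : Nat.card H ∣ 15 := (Nat.Coprime.pow_right 3 (Nat.coprime_two_right.2 o)).dvd_of_dvd_mul_left
    (H.card_subgroup_dvd_card.trans (c.trans (show 120 = 2 ^ 3 * 15 from rfl)).dvd)
  by_contra n
  have c15 : Nat.card H = 15 := le_antisymm (Nat.le_of_dvd (by omega) d) (by omega)
  have : Fact (Nat.Prime 5) := ⟨by decide⟩
  have : Fact (Nat.Prime 3) := ⟨by decide⟩
  obtain ⟨a, ha⟩ := exists_prime_orderOf_dvd_card' (G := H) 5 (by rw [c15]; decide)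
  obtain ⟨b, hb⟩ := exists_prime_orderOf_dvd_card' (G := H) 3 (by rw [c15]; decide)
  have a5 : a ^ 5 = 1 := ha ▸ pow_orderOf_eq_one a
  let f : H →* Equiv.Perm (Fin 5) := e.permCongrHom.toMonoidHom.comp H.subtype
  have hf : Function.Injective f := e.permCongrHom.injective.comp H.subtype_injective
  obtain ⟨i, hi⟩ := perm5 (f a) (f b) (by rw [← map_pow, a5, map_one])
    (fun h => by rw [(map_eq_one_iff f hf).1 h, orderOf_one] at ha; omega)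
    (by rw [← map_pow, ← hb, pow_orderOf_eq_one, map_one])
    (fun h => by rw [(map_eq_one_iff f hf).1 h, orderOf_one] at hb; omega)
  rw [← map_pow, ← map_mul, ← map_pow, map_eq_one_iff f hf] at hi
  have h1 : b * a ^ i.1 = 1 := orderOf_eq_one_iff.1 (Nat.Coprime.eq_one_of_dvd
    ((Nat.coprime_two_right.2 o).coprime_dvd_left (orderOf_dvd_natCard _)) (orderOf_dvd_of_pow_eq_one hi))
  have h2 : b ^ 5 = 1 := by
    rw [eq_inv_of_mul_eq_one_left h1, inv_pow, ← pow_mul, mul_comm, pow_mul, a5, one_pow, inv_one]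
  exact absurd (hb ▸ orderOf_dvd_of_pow_eq_one h2) (by decide)

variable {G : Type*} [Group G] [Finite G] {A L L' T V W X X' Y Y' : Subgroup G} {a c g u v w z : G}

structure Pq (V A : Subgroup G) : Prop where
  fr : Fr (V ⊔ A) V A
  hC : ∀ z ∈ V ⊓ A, z ≠ 1 → C1[z] ≤ N[V ⊔ A]
  tV : ∀ a ∈ V, a ≠ 1 → ∀ b ∈ V, b ≠ 1 → ∃ n ∈ N[V], n * a * n⁻¹ = b
  tA : ∀ a ∈ A, a ≠ 1 → ∀ b ∈ A, b ≠ 1 → ∃ n ∈ N[A], n * a * n⁻¹ = b

theorem tr_cj (h : ∀ a ∈ V, a ≠ 1 → ∀ b ∈ V, b ≠ 1 → ∃ n ∈ N[V], n * a * n⁻¹ = b) (g : G) :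
    ∀ a ∈ cj g V, a ≠ 1 → ∀ b ∈ cj g V, b ≠ 1 → ∃ n ∈ N[cj g V], n * a * n⁻¹ = b := fun a ha a1 b hb b1 => by
  obtain ⟨a, ha', rfl⟩ := mem_cj'.1 ha
  obtain ⟨b, hb', rfl⟩ := mem_cj'.1 hb
  obtain ⟨n, hn, rfl⟩ := h a ha' (by simpa using a1) b hb' (by simpa using b1)
  exact ⟨g * n * g⁻¹, by rw [N_cj]; exact conj_mem_cj g hn, by group⟩

namespace Pq
variable (h : Pq V A)
include h
theorem symm : Pq A V := ⟨sup_comm V A ▸ h.fr.symm, by rw [sup_comm, inf_comm]; exact h.hC, h.tA, h.tV⟩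
theorem cj (g : G) : Pq (cj g V) (cj g A) :=
  ⟨cj_sup g V A ▸ h.fr.cj g, fun z hz z1 => by
    rw [← cj_inf] at hz
    obtain ⟨z, hz', rfl⟩ := mem_cj'.1 hz
    rw [← cj_sup, N_cj, C1_conj]
    exact cj_mono g (h.hC z hz' (by simpa using z1)), tr_cj h.tV g, tr_cj h.tA g⟩
theorem AN : A ≤ N[V] := h.fr.symm.AN
theorem sV : SylowIn 2 (V ⊔ A) N[V] := h.fr.sA
theorem eqV (hX : Pt V X) (hle : X ≤ V ⊔ A) : X = V := by
  obtain ⟨g, rfl⟩ := hX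
  exact h.fr.wc hle
theorem two_le (hz : z ∈ V ⊓ A) (h1 : z ≠ 1) (hX : IsPGroup 2 X) (hc : X ≤ C1[z]) : X ≤ V ⊔ A :=
  syl_le h.fr.syl le_top hX (.inl (hc.trans (h.hC z hz h1)))
theorem flag (hX : Pt V X) (hL : Pt A L) (hi : X ⊓ L ≠ ⊥) : Pq X L := by
  obtain ⟨u, hu, u1⟩ := exists_ne_one hi
  obtain ⟨g, rfl⟩ := hX
  obtain ⟨z, hz, z1⟩ := h.fr.exZ
  obtain ⟨n, hn, e⟩ := h.tV z hz.1 z1 _ (mem_cj.1 hu.1) (fun e => u1 (by simpa [mul_assoc] using congrArg (g * · * g⁻¹) e))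
  have h' := h.cj (g * n)
  have hu' : u ∈ BG.cj (g * n) V ⊓ BG.cj (g * n) A := by rw [← cj_inf, cj_mul, mem_cj, ← e]; exact conj_mem_cj n hz
  have := h'.symm.eqV (Pt.trans (Pt.symm ⟨_, rfl⟩) hL) (by
    obtain ⟨k, rfl⟩ := hL
    rw [sup_comm]
    exact h'.two_le hu' u1 (EA.cj h.fr.eB k).pg ((EA.cj h.fr.eB k).cent.trans (cent_le_cent1 hu.2)))
  rwa [← this, cj_mul, cj_of_norm hn] at h'
theorem exists_flag (hu : orderOf u = 2) : ∃ g, u ∈ BG.cj g V ⊓ BG.cj g A := by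
  have := Nat.fact_prime_two
  obtain ⟨g, -, hg⟩ := Sylow_Jsub h.fr.syl le_top (two_of_sq (sq_of_ord hu)).zpowers
  have u2 := (orderOf_conj' g u).trans hu
  obtain ⟨z, hz, z1⟩ := h.fr.exZ
  obtain ⟨n, e⟩ : ∃ n, n * z * n⁻¹ = g * u * g⁻¹ :=
    (h.fr.inv _ (hg (conj_mem_cj g (mem_zpowers u))) (sq_of_ord u2)).elim
      (fun h1 => (h.tV z hz.1 z1 _ h1 (ne_one_of_ord u2)).imp fun _ h => h.2)
      (fun h1 => (h.tA z hz.2 z1 _ h1 (ne_one_of_ord u2)).imp fun _ h => h.2)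
  exact ⟨g⁻¹ * n, by rw [← cj_inf, cj_mul, mem_cj_inv, ← e]; exact conj_mem_cj n hz⟩
theorem ord (hX : Pt V X) (hu : u ∈ X) (u1 : u ≠ 1) : orderOf u = 2 := hX.elim fun g e => (e ▸ EA.cj h.fr.eA g).ord hu u1
theorem exists_line (hu : orderOf u = 2) : ∃ L, Pt A L ∧ u ∈ L := (h.exists_flag hu).elim fun g hg => ⟨_, ⟨g, rfl⟩, hg.2⟩
theorem ptu (hX : Pt V X) (hX' : Pt V X') (hi : X ⊓ X' ≠ ⊥) : X = X' := by
  obtain ⟨u, hu, u1⟩ := exists_ne_one hi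
  obtain ⟨L, hL, huL⟩ := h.exists_line (h.ord hX hu.1 u1)
  have h1 := h.flag hX hL (inc_of u1 hu.1 huL)
  have h2 := h.flag hX' hL (inc_of u1 hu.2 huL)
  exact (h1.eqV (hX.symm.trans hX') (h1.two_le ⟨hu.1, huL⟩ u1 (EA.pg h2.fr.eA)
    ((EA.cent h2.fr.eA).trans (cent_le_cent1 hu.2)))).symm
theorem inc : V ⊓ A ≠ ⊥ := h.fr.exZ.elim fun _ hz => inc_of hz.2 hz.1.1 hz.1.2
theorem syl (hT : SylowIn 2 T N[V]) : ∃ L, Pt A L ∧ V ⊓ L ≠ ⊥ ∧ T = V ⊔ L := by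
  have := Nat.fact_prime_two
  obtain ⟨n, hn, rfl⟩ := Sylow_trans h.sV hT
  exact ⟨_, ⟨n, rfl⟩, cj_of_norm hn ▸ inc_cj h.inc n, by rw [cj_sup, cj_of_norm hn]⟩
theorem le_norm (hX : Pt V X) (hL : Pt A L) (hi : X ⊓ L ≠ ⊥) : L ≤ N[X] := (h.flag hX hL hi).AN
theorem fix (hX : Pt V X) (hL : Pt A L) (hu : u ∈ L) (u1 : u ≠ 1) (hn : u ∈ N[X]) : X ⊓ L ≠ ⊥ := by
  have := Nat.fact_prime_two
  obtain ⟨g, rfl⟩ := hX
  have u2 := sq_of_ord (h.symm.ord hL hu u1)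
  obtain ⟨T, hT, hle⟩ := Sylow_superset (zpowers_le.2 hn) (two_of_sq u2).zpowers
  obtain ⟨L', hL', hi, rfl⟩ := (h.cj g).syl hT
  have hL'' := Pt.trans ⟨g, rfl⟩ hL'
  exact ((h.flag ⟨g, rfl⟩ hL'' hi).fr.inv _ (hle (mem_zpowers u)) u2).elim (inc_of u1 · hu)
    fun h1 => h.symm.ptu hL'' hL (inc_of u1 h1 hu) ▸ hi
theorem line_uniq (hX : Pt V X) (hY : Pt V Y) (hne : X ≠ Y) (hL : Pt A L) (hL' : Pt A L') (i1 : X ⊓ L ≠ ⊥) (i2 : Y ⊓ L ≠ ⊥)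
    (i3 : X ⊓ L' ≠ ⊥) (i4 : Y ⊓ L' ≠ ⊥) : L = L' := by
  obtain ⟨z, hz, z1⟩ := exists_ne_one i1
  obtain ⟨y, hy, y1⟩ := exists_ne_one i4
  have f := h.flag hX hL i1
  have c : z⁻¹ * (y * z * y⁻¹) = 1 := by_contra fun e => hne (h.ptu hX hY (inc_of e
    (mul_mem (inv_mem hz.1) (conj_mem_of_norm (h.le_norm hX hL' i3 hy.2) hz.1))
    (by simpa [mul_assoc] using mul_mem (conj_mem_of_norm' (h.le_norm hY hL i2 hz.2) hy.1) (inv_mem hy.1))))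
  rw [inv_mul_eq_one, eq_comm, mul_inv_eq_iff_eq_mul] at c
  have y2 := sq_of_ord (h.ord hY hy.1 y1)
  exact (f.fr.inv _ (f.two_le hz z1 (two_of_sq y2).zpowers (zpowers_le.2 (mem_cent1.2 c)) (mem_zpowers y)) y2).elim
    (fun h1 => absurd (h.ptu hX hY (inc_of y1 h1 hy.1)) hne) fun h1 => h.symm.ptu hL hL' (inc_of y1 h1 hy.2)
theorem stab (hX : Pt V X) (i : X ⊓ A ≠ ⊥) (hne : X ≠ V) (hv : v ∈ V) (e : v ∈ N[X]) : v ∈ A := by_contra fun e' => by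
  have v1 : v ≠ 1 := fun e => e' (e ▸ one_mem A)
  obtain ⟨L, hL, h1⟩ := h.exists_line (EA.ord h.fr.eA hv v1)
  exact e' (h.line_uniq (.refl V) hX hne.symm hL (.refl A) (inc_of v1 hv h1) (h.fix hX hL h1 v1 e) h.inc i ▸ h1)
theorem third (hL : Pt A L) (i : V ⊓ L ≠ ⊥) : ∃ L', Pt A L' ∧ V ⊓ L' ≠ ⊥ ∧ L' ≠ A ∧ L' ≠ L := by
  obtain ⟨v, hv, h1, h2⟩ := exists_not_two h.fr.nle (h.flag (.refl V) hL i).fr.nle
  have v1 : v ≠ 1 := fun e => h1 (e ▸ one_mem A)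
  obtain ⟨L', hL', h3⟩ := h.exists_line (EA.ord h.fr.eA hv v1)
  exact ⟨L', hL', inc_of v1 hv h3, fun e => h1 (e ▸ h3), fun e => h2 (e ▸ h3)⟩
theorem le4 : {L | (Pt A L ∧ V ⊓ L ≠ ⊥) ∧ L ≠ A}.ncard ≤ 4 := by
  have c := dc {L | (Pt A L ∧ V ⊓ L ≠ ⊥) ∧ L ≠ A} {v | v ∈ V ∧ v ∉ V ⊓ A} (fun L v => v ∈ L) (a := 3) (b := 1)
    (fun L hL => by
      have := card_ne_one (V ⊓ L)
      rw [(h.flag (.refl V) hL.1.1 hL.1.2).fr.cZ] at this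
      exact le_trans (by omega) (Set.ncard_le_ncard (s := {v | v ∈ V ⊓ L ∧ v ≠ 1}) fun u hu =>
        ⟨⟨hu.1.1, fun e => hL.2 (h.symm.ptu hL.1.1 (.refl A) (inc_of hu.2 hu.1.2 e.2))⟩, hu.1.2⟩))
    fun v hv => (Set.ncard_le_one_iff).2 fun hX hX' => h.symm.ptu hX.1.1.1 hX'.1.1.1
      (inc_of (u := v) (fun e => hv.2 (e ▸ one_mem _)) hX.2 hX'.2)
  have c2 := card_diff (inf_le_left : V ⊓ A ≤ V)
  rw [h.fr.cZ, h.fr.cA] at c2
  have : {v | v ∈ V ∧ v ∉ V ⊓ A}.ncard = 12 := by rw [← Nat.card_coe_set_eq]; exact Nat.add_right_cancel c2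
  omega
theorem trans_line (hL : Pt A L) (hL' : Pt A L') (i1 : V ⊓ L ≠ ⊥) (i2 : V ⊓ L' ≠ ⊥) (n1 : L ≠ A) (n2 : L' ≠ A) :
    ∃ a ∈ A, BG.cj a L = L' :=
  (idx_le (A := A) (B := V) (BG.cj · L) {L | (Pt A L ∧ V ⊓ L ≠ ⊥) ∧ L ≠ A}
    (fun a ha => ⟨⟨hL.cj a, cj_of_norm (h.AN ha) ▸ inc_cj i1 a⟩,
      fun e => n1 (by rw [cj_eq_iff.1 e, cj_of_mem (inv_mem ha)])⟩)
    fun a ha b hb e => h.symm.stab hL (inc_symm i1) n1 (mul_mem (inv_mem ha) hb) (cj_eq_cj.1 e)).2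
    (by rw [h.fr.ri, Nat.card_coe_set_eq]; exact h.le4) L' ⟨⟨hL', i2⟩, n2⟩
theorem card_on : {X | Pt V X ∧ X ⊓ A ≠ ⊥}.ncard = 5 := by
  obtain ⟨X, hX, i, hne, -⟩ := h.symm.third (.refl V) (inc_symm h.inc)
  have c1 := idx_eq (A := V) (B := A) (BG.cj · X) {X | (Pt V X ∧ X ⊓ A ≠ ⊥) ∧ X ≠ V}
    (fun v hv => ⟨⟨hX.cj v, cj_of_norm (h.symm.AN hv) ▸ inc_cj (inc_symm i) v⟩,
      fun e => hne (by rw [cj_eq_iff.1 e, cj_of_mem (inv_mem hv)])⟩)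
    (fun a ha b hb => cj_eq_cj.trans ⟨h.stab hX (inc_symm i) hne (mul_mem (inv_mem ha) hb),
      fun e => h.le_norm hX (.refl A) (inc_symm i) e⟩)
    fun Y hY => h.symm.trans_line hX hY.1.1 i (inc_symm hY.1.2) hne hY.2
  rw [h.fr.symm.ri] at c1
  rw [← Set.ncard_sdiff_singleton_add_one (s := {X | Pt V X ∧ X ⊓ A ≠ ⊥}) ⟨.refl V, h.inc⟩]
  exact congrArg (· + 1) c1.symm

theorem cfree (hu : orderOf u = 2) (ho : Odd (orderOf c)) (hi : u * c * u⁻¹ = c⁻¹) (hw : orderOf w = 2)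
    (e : w * c = c * w) : c = 1 := by
  have := Nat.fact_prime_two
  have un : u ∈ N[C1[c]] := mem_norm.2 (by rw [← C1_conj, hi]; ext x; rw [mem_cent1, mem_cent1]; exact
    ⟨fun e => (Commute.inv_right_iff.1 e).eq, fun e => (Commute.inv_right e).eq⟩)
  obtain ⟨P, hP, hle⟩ := Sylow_superset (zpowers_le.2 un) (two_of_sq (sq_of_ord hu)).zpowers
  obtain ⟨k, hk, h1⟩ := Sylow_Jsub hP (zpowers_le.2 (normG _ (mem_cent1.2 e))) (two_of_sq (sq_of_ord hw)).zpowers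
  obtain ⟨x, hx, x2⟩ := Invol.exists_invol_mem_of_isPGroup (hP.pg.to_le (inf_le_left.trans inf_le_left))
    (meet_center_nil (pgroup_nil hP.pg) (N := P ⊓ C1[c]) ⟨inf_le_left, normsI (normG P) hP.le⟩
      (inc_of (ne_one_of_ord ((orderOf_conj' k w).trans hw)) (h1 (conj_mem_cj k (mem_zpowers w)))
        (conj_mem_of_norm hk (mem_cent1.2 e))))
  obtain ⟨g, hg⟩ := h.exists_flag x2
  have f := h.cj g
  have cN := f.hC x hg (ne_one_of_ord x2) (mem_cent1.2 (mem_cent1.1 hx.1.2).symm)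
  have uT := f.two_le hg (ne_one_of_ord x2) (two_of_sq (sq_of_ord hu)).zpowers
    (zpowers_le.2 (mem_cent1.2 (mem_cent.1 hx.2.2 u (hle (mem_zpowers u))))) (mem_zpowers u)
  have m := mul_mem (conj_mem_of_norm cN uT) (inv_mem uT)
  rw [show c * u * c⁻¹ * u⁻¹ = c ^ 2 by rw [mul_assoc, mul_assoc, ← mul_assoc u, ← conj_inv, hi, inv_inv, pow_two]] at m
  obtain ⟨j, hj⟩ := two_of_mem f.fr.syl.pg m
  exact by_contra fun c1 => not_two_of_odd ho c1 ⟨j + 1, by rw [pow_succ', pow_mul, hj]⟩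

theorem lfree (hu : orderOf u = 2) (ho : Odd (orderOf c)) (hi : u * c * u⁻¹ = c⁻¹)
    (hc : ∀ L, Pt A L → V ⊓ L ≠ ⊥ → c ∈ N[L]) : c = 1 := by
  by_contra c1
  obtain ⟨L, hL, i, n, -⟩ := h.third (.refl A) h.inc
  have cA := hc A (.refl A) h.inc
  have := (idx_le (A := A) (B := ⊥) (fun b => b⁻¹ * (c * b * c⁻¹)) (V ⊓ A : Subgroup G) (fun b hb => by
      have m := mul_mem (inv_mem hb) (conj_mem_of_norm cA hb)
      refine ⟨h.symm.stab hL (inc_symm i) n m (mem_norm.2 ?_), m⟩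
      rw [cj_mul, cj_mul, cj_mul, cj_of_norm (inv_mem (hc L hL i)),
        cj_of_norm (hc _ (hL.cj b) (cj_of_norm (h.AN hb) ▸ inc_cj i b)), cj_inv_cj])
    fun a ha b hb e => by_contra fun n => ?_).1
  · rw [relIndex_bot_left, h.fr.cB] at this
    exact absurd (this.trans_eq h.fr.cZ) (by omega)
  have n' : b * a⁻¹ ≠ 1 := fun e => n (by rw [mul_inv_eq_one.1 e, inv_mul_cancel]; exact one_mem _)
  exact c1 <| h.cfree hu ho hi (EA.ord h.fr.eB (mul_mem hb (inv_mem ha)) n') (by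
    calc b * a⁻¹ * c = b * (a⁻¹ * (c * a * c⁻¹)) * c * a⁻¹ := by group
      _ = _ := by rw [show a⁻¹ * (c * a * c⁻¹) = _ from e]; group)

theorem bound (ho : Odd #(N[V] ⊓ N[Y])) :
    {u | orderOf u = 2 ∧ BG.cj u V = Y}.ncard ≤ 14 := by
  rcases Set.eq_empty_or_nonempty {u | orderOf u = 2 ∧ BG.cj u V = Y} with e | ⟨u, hu, e⟩
  · rw [e, Set.ncard_empty]; omega
  have e' : ∀ u, orderOf u = 2 → BG.cj u V = Y → BG.cj u Y = V := fun u hu e => by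
    rw [← e, ← cj_mul, sq_of_ord hu, cj_one]
  have m : ∀ {u w}, orderOf u = 2 ∧ BG.cj u V = Y → orderOf w = 2 ∧ BG.cj w V = Y → u * w ∈ N[V] ⊓ N[Y] :=
    fun hu hw => ⟨mem_norm.2 (by rw [cj_mul, hw.2, e' _ hu.1 hu.2]), mem_norm.2 (by rw [cj_mul, e' _ hw.1 hw.2, hu.2])⟩
  let α := {L // Pt A L ∧ L ⊓ V ≠ ⊥}
  let _ : MulAction (N[V] ⊓ N[Y] : Subgroup G) α :=
    { smul := fun g X => ⟨BG.cj g.1 X.1, X.2.1.cj g, by have := inc_cj X.2.2 g.1; rwa [cj_of_norm g.2.1] at this⟩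
      one_smul := fun X => Subtype.ext (cj_one _)
      mul_smul := fun g k X => Subtype.ext (cj_mul _ _ _) }
  let φ := MulAction.toPermHom (N[V] ⊓ N[Y] : Subgroup G) α
  refine le_trans ?_ (odd5 (α := α) h.symm.card_on φ.range (ho.of_dvd_nat (card_range_dvd φ)))
  rw [← Nat.card_coe_set_eq]
  refine Nat.card_le_card_of_injective (fun w => ⟨φ ⟨u * w.1, m ⟨hu, e⟩ w.2⟩, _, rfl⟩) fun w x E => Subtype.ext ?_
  have E' : φ ⟨w.1 * x.1, m w.2 x.2⟩ = 1 := by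
    rw [← inv_mul_eq_one.2 (congrArg Subtype.val E), ← map_inv, ← map_mul]
    exact congrArg φ (Subtype.ext (by simp [inv_eq_of_mul_eq_one_right (sq_of_ord w.2.1), mul_assoc]))
  have := h.lfree w.2.1 (ho.of_dvd_nat (orderOf_dvd_cardG (m w.2 x.2))) (by
    rw [← mul_assoc, sq_of_ord w.2.1, one_mul, mul_inv_rev, inv_eq_of_mul_eq_one_right (sq_of_ord x.2.1)])
    fun L hL i => mem_norm.2 (congrArg Subtype.val (Equiv.congr_fun E' ⟨L, hL, inc_symm i⟩))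
  exact mul_left_cancel ((sq_of_ord w.2.1).trans this.symm)

theorem col0 (hY : Pt V Y) (hne : Y ≠ V) : ∃ L, Pt A L ∧ V ⊓ L ≠ ⊥ ∧ Y ⊓ L ≠ ⊥ := by
  by_contra H
  let S : Set (Subgroup G) := {Y | Pt V Y ∧ Y ≠ V ∧ ¬ ∃ L, Pt A L ∧ V ⊓ L ≠ ⊥ ∧ Y ⊓ L ≠ ⊥}
  let I : Set G := {u | u ≠ 1 ∧ ∃ Y ∈ S, u ∈ Y}
  have hI : ∀ u ∈ I, orderOf u = 2 := fun u ⟨u1, Y, hY, hu⟩ => h.ord hY.1 hu u1
  have c1 := dc S I (fun Y u => u ∈ Y) (a := 15) (b := 1) (fun Y hY => by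
      have := card_ne_one Y
      rw [hY.1.card, h.fr.cA] at this
      exact le_trans (by omega) (Set.ncard_le_ncard (s := {v | v ∈ Y ∧ v ≠ 1}) fun u hu => ⟨⟨hu.2, Y, hY, hu.1⟩, hu.1⟩))
    fun u hu => (Set.ncard_le_one_iff).2 fun hX hX' => h.ptu hX.1.1 hX'.1.1 (inc_of hu.1 hX.2 hX'.2)
  have c2 := dc I S (fun u Y => BG.cj u V = Y) (a := 1) (b := 14) (fun u hu => by
      obtain ⟨L, hL, huL⟩ := h.exists_line (hI u hu)
      obtain ⟨u1, Y, hY, hu'⟩ := hu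
      have nV : u ∉ N[V] := fun e => hY.2.2 ⟨L, hL, h.fix (.refl V) hL huL u1 e, inc_of u1 hu' huL⟩
      refine (Set.ncard_pos).2 ⟨_, ⟨⟨u, rfl⟩, fun e => nV (mem_norm.2 e), fun ⟨L', hL', i1, i2⟩ => hY.2.2 ?_⟩, rfl⟩
      have i3 := inc_cj i2 u
      rw [← cj_mul, sq_of_ord (h.ord hY.1 hu' u1), cj_one] at i3
      exact ⟨L', hL', i1, inc_symm (h.symm.fix hL' hY.1 hu' u1 (mem_norm.2 (h.line_uniq (.refl V) ⟨u, rfl⟩
        (fun e => nV (mem_norm.2 e.symm)) (hL'.cj u) hL' i3 (inc_cj i1 u) i1 i2)))⟩)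
    fun Y hY => le_trans (Set.ncard_le_ncard (t := {u | orderOf u = 2 ∧ BG.cj u V = Y}) fun u hu => ⟨hI u hu.1, hu.2⟩)
      (h.bound (Invol.odd_card_iff.2 fun w hw w2 => by
        obtain ⟨L, hL, h1⟩ := h.exists_line w2
        exact hY.2.2 ⟨L, hL, h.fix (.refl V) hL h1 (ne_one_of_ord w2) hw.1, h.fix hY.1 hL h1 (ne_one_of_ord w2) hw.2⟩))
  have c3 : 0 < S.ncard := (Set.ncard_pos).2 ⟨Y, hY, hne, H⟩
  omega

theorem col (hX : Pt V X) (hY : Pt V Y) (hne : X ≠ Y) : ∃ L, Pt A L ∧ X ⊓ L ≠ ⊥ ∧ Y ⊓ L ≠ ⊥ := by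
  obtain ⟨g, rfl⟩ := hX
  exact ((h.cj g).col0 (Pt.trans (Pt.symm ⟨g, rfl⟩) hY) hne.symm).imp fun L h => ⟨Pt.trans ⟨g, rfl⟩ h.1, h.2⟩

theorem split (hL : Pt A L) (i : V ⊓ L ≠ ⊥) (hne : L ≠ A) (hv : v ∈ V) : ∃ z ∈ V ⊓ A, ∃ y ∈ V ⊓ L, v = z * y := by
  have hn : V ⊓ A ≤ N[V ⊓ L] := inf_le_left.trans (cents_norm (centsS inf_le_left (EA.cent h.fr.eA)))
  have c := card_sup_TI (.inl hn) (by_contra fun e => hne (h.symm.ptu hL (.refl A) fun e' =>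
    e (le_bot_iff.1 (e' ▸ le_inf (inf_le_right.trans inf_le_right) (inf_le_left.trans inf_le_right)))))
  rw [h.fr.cZ, (h.flag (.refl V) hL i).fr.cZ] at c
  exact (mem_sup_normr hn).1 ((eq_of_card_le (sup_le inf_le_left inf_le_left) (h.fr.cA.trans c.symm).le).ge hv)

theorem offtrans (hY : Pt V Y) (hY' : Pt V Y') (o : Y ⊓ A = ⊥) (o' : Y' ⊓ A = ⊥) : ∃ a ∈ A, BG.cj a Y = Y' := by
  have n1 : V ≠ Y := fun e => h.inc (e ▸ o)
  have n2 : V ≠ Y' := fun e => h.inc (e ▸ o')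
  obtain ⟨L, hL, i1, i2⟩ := h.col (.refl V) hY n1
  obtain ⟨L', hL', i3, i4⟩ := h.col (.refl V) hY' n2
  obtain ⟨a, ha, rfl⟩ := h.trans_line hL hL' i1 i3 (fun e => i2 (e ▸ o)) fun e => i4 (e ▸ o')
  obtain ⟨v, hv, e⟩ := (h.flag (.refl V) hL' i3).symm.trans_line (hY.cj a) hY' (inc_cj (inc_symm i2) a)
    (inc_symm i4) (fun e => n1 (by rw [cj_eq_iff.1 e, cj_of_norm (inv_mem (h.AN ha))])) n2.symm
  obtain ⟨z, hz, y, hy, rfl⟩ := h.split hL' i3 (fun e => i4 (e ▸ o')) hv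
  exact ⟨z * a, mul_mem hz.2 ha, by
    rw [← e, cj_mul, cj_mul, cj_of_norm (h.le_norm (hY.cj a) hL' (inc_cj i2 a) hy.2)]⟩

theorem exists_off : ∃ Y, Pt V Y ∧ Y ⊓ A = ⊥ := by
  obtain ⟨L, hL, i, n, -⟩ := h.third (.refl A) h.inc
  obtain ⟨Y, hY, j, n', -⟩ := (h.flag (.refl V) hL i).symm.third (.refl V) (inc_symm i)
  exact ⟨Y, hY, by_contra fun e => n (h.line_uniq (.refl V) hY n'.symm hL (.refl A) i (inc_symm j) h.inc e)⟩

theorem card_pts : {X | Pt V X}.ncard = 16 + 5 := by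
  obtain ⟨Y, hY, oY⟩ := h.exists_off
  have c1 := idx_eq (A := A) (B := ⊥) (BG.cj · Y) {X | Pt V X ∧ X ⊓ A = ⊥}
    (fun a ha => ⟨hY.cj a, by rw [← cj_of_mem ha, ← cj_inf, oY, cj_bot]⟩)
    (fun a ha b hb => cj_eq_cj.trans ⟨fun e => by_contra fun e' =>
      h.fix hY (.refl A) (mul_mem (inv_mem ha) hb) e' e oY, fun e => mem_bot.1 e ▸ one_mem _⟩)
    fun X hX => h.offtrans hY hX.1 oY hX.2
  rw [relIndex_bot_left, h.fr.cB] at c1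
  rw [c1, ← h.card_on, ← Set.ncard_union_eq (Set.disjoint_left.2 fun _ h h' => h'.2 h.2)]
  congr 1; ext; simp only [Set.mem_union, Set.mem_ofPred_eq]; tauto

theorem idx2 (H : Subgroup G) : H.index ≠ 2 := fun i => by
  have := H.normal_of_index_eq_two i
  obtain ⟨z, hz, z1⟩ := h.fr.exZ
  obtain ⟨a, ha, hB⟩ := SetLike.not_le_iff_exists.1 h.fr.nle
  obtain ⟨b, -, e⟩ := h.fr.surj ha hB hz
  have zH : z ∈ H := by
    rw [← e, mul_assoc, mul_assoc, mul_mem_iff_of_index_two i, mul_mem_iff_of_index_two i,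
      mul_mem_iff_of_index_two i, inv_mem_iff, inv_mem_iff]; tauto
  have k : ∀ {B : Subgroup G}, z ∈ B → (∀ a ∈ B, a ≠ 1 → ∀ b ∈ B, b ≠ 1 → ∃ n ∈ N[B], n * a * n⁻¹ = b) → B ≤ H :=
    fun hz t b hb => (eq_or_ne b 1).elim (fun e => e ▸ one_mem H) fun b1 =>
      (t z hz z1 b hb b1).elim fun n hn => hn.2 ▸ this.conj_mem z zH n
  exact h.fr.syl.not_dvd ((i ▸ index_dvd_of_le (sup_le (k hz.1 h.tV) (k hz.2 h.tA))).trans
    (relIndex_top_right _).symm.dvd)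

open scoped Pointwise in
theorem plane (hO : oddCore G = ⊥) {F : Type*} [Field F] [Fintype F] (hF : Fintype.card F = 4) :
    ∃ f : G →* GL (Fin 3) F ⧸ center (GL (Fin 3) F), Function.Injective f := by
  classical
  have c1 := h.card_pts
  let α := {X // Pt V X}
  have : Fintype α := Fintype.ofFinite α
  let _ : MulAction G α :=
    { smul := fun g X => ⟨BG.cj g X, X.2.cj g⟩
      one_smul := fun X => Subtype.ext (cj_one _)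
      mul_smul := fun g k X => Subtype.ext (cj_mul _ _ _) }
  let b : Subgroup G → Finset α := fun L => Finset.univ.filter fun X => X.1 ⊓ L ≠ ⊥
  have hb : ∀ {L X}, X ∈ b L ↔ X.1 ⊓ L ≠ ⊥ := by simp [b]
  have hφ : ∀ g L, MulAction.toPermHom G α g • b L = b (BG.cj g L) := fun g L => Finset.ext fun X => by
    rw [← Finset.inv_smul_mem_iff, ← map_inv, hb, hb]
    exact ⟨fun e => cj_cj_inv g X.1 ▸ inc_cj e g, fun e => cj_inv_cj g L ▸ inc_cj e g⁻¹⟩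
  refine pgl_of_steiner (α := α) (B := b '' {L | Pt A L}) ((Nat.card_eq_fintype_card).symm.trans c1) ⟨?_, fun s hs => ?_⟩
    (MulAction.toPermHom G α) ((MonoidHom.ker_eq_bot_iff _).1 (le_bot_iff.1 (hO ▸ ?_))) (fun g => ?_) h.idx2 hF
  · rintro _ ⟨_, ⟨g, rfl⟩, rfl⟩
    rw [← hφ, Finset.card_smul_finset, ← Set.ncard_coe_finset, ← Set.ncard_image_of_injective _ Subtype.val_injective]
    refine .trans (congrArg _ (Set.ext fun X => ⟨?_, fun hX => ⟨⟨X, hX.1⟩, hb.2 hX.2, rfl⟩⟩)) h.card_on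
    rintro ⟨X, hX, rfl⟩
    exact ⟨X.2, hb.1 hX⟩
  · obtain ⟨X, Y, hne, rfl⟩ := Finset.card_eq_two.1 hs
    have hne' : X.1 ≠ Y.1 := fun e => hne (Subtype.ext e)
    obtain ⟨L, hL, i1, i2⟩ := h.col X.2 Y.2 hne'
    refine ⟨b L, ⟨⟨L, hL, rfl⟩, by simp [Finset.insert_subset_iff, hb, i1, i2]⟩, ?_⟩
    rintro _ ⟨⟨M, hM, rfl⟩, h1⟩
    rw [h.line_uniq X.2 Y.2 hne' hM hL (hb.1 (h1 (by simp))) (hb.1 (h1 (by simp))) i1 i2]
  · have := Nat.fact_prime_two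
    refine (pcore_max ⟨le_top, (normalizer_eq_top _).ge⟩ (pnat_odd.2 (Invol.odd_card_iff.2 fun w hw w2 => ?_))).trans
      (Op'_top 2).le
    obtain ⟨g, hg⟩ := h.exists_flag w2
    obtain ⟨Y, hY, oY⟩ := (h.cj g).exists_off
    have hY' := Pt.trans ⟨g, rfl⟩ hY
    exact h.fix hY' ⟨g, rfl⟩ hg.2 (ne_one_of_ord w2)
      (mem_norm.2 (congrArg Subtype.val (Equiv.congr_fun (MonoidHom.mem_ker.1 hw) ⟨Y, hY'⟩))) oY
  · refine Set.ext fun s => ⟨?_, ?_⟩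
    · rintro ⟨_, ⟨L, hL, rfl⟩, rfl⟩
      exact ⟨_, Pt.cj hL g, (hφ g L).symm⟩
    · rintro ⟨L, hL, rfl⟩
      exact ⟨_, ⟨_, Pt.cj hL g⁻¹, rfl⟩, (hφ g _).trans (by rw [cj_cj_inv])⟩

end Pq

theorem Fr.plane {B : Subgroup G} (h : Fr T A B) (hC : ∀ z ∈ A ⊓ B, z ≠ 1 → C1[z] ≤ N[T])
    (tA : ∀ a ∈ A, a ≠ 1 → ∀ b ∈ A, b ≠ 1 → ∃ n ∈ N[A], n * a * n⁻¹ = b)
    (tB : ∀ a ∈ B, a ≠ 1 → ∀ b ∈ B, b ≠ 1 → ∃ n ∈ N[B], n * a * n⁻¹ = b)
    (hO : oddCore G = ⊥) {F : Type*} [Field F] [Fintype F] (hF : Fintype.card F = 4) :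
    ∃ f : G →* GL (Fin 3) F ⧸ center (GL (Fin 3) F), Function.Injective f := by
  obtain rfl := h.sup
  exact Pq.plane ⟨h, hC, tA, tB⟩ hO hF

end Cfsg.Agent.L34S
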