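import Cfsg.Agent.CIT.Geo

/-! Groups with a Sylow 2-subgroup of type `L₃(4)`: the frame `Fr T A B` and its first properties. -/

set_option autoImplicit false
set_option linter.unusedSectionVars false

namespace Cfsg.Agent.L34S

open Cfsg.Agent.BG Cfsg.Agent.CIT Subgroup

variable {G : Type*} [Group G] [Finite G] {T T' A B B' X : Subgroup G} {a b g t z : G}

structure Fr (T A B : Subgroup G) : Prop where
  syl : SylowIn 2 T ⊤
  sup : A ⊔ B = T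
  cA : #A = 16
  cB : #B = 16
  cZ : #(A ⊓ B : Subgroup G) = 4
  eA : ∀ a ∈ A, a * a = 1
  eB : ∀ b ∈ B, b * b = 1
  inv : ∀ t ∈ T, t * t = 1 → t ∈ A ∨ t ∈ B
  cen : ∀ a ∈ A, ∀ b ∈ B, a * b = b * a → a ∈ B ∨ b ∈ A
  com : ∀ a ∈ A, ∀ b ∈ B, a * b * a⁻¹ * b⁻¹ ∈ A ⊓ B

namespace Fr
variable (h : Fr T A B)
include h

theorem symm : Fr T B A :=
  ⟨h.syl, sup_comm A B ▸ h.sup, h.cB, h.cA, inf_comm A B ▸ h.cZ, h.eB, h.eA, fun t ht e => (h.inv t ht e).symm,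
    fun b hb a ha e => (h.cen a ha b hb e.symm).symm, fun b hb a ha => by
      have := inv_mem (h.com a ha b hb)
      rw [inf_comm]; simpa [mul_assoc] using this⟩

theorem cj (g : G) : Fr (cj g T) (cj g A) (cj g B) := by
  refine ⟨by simpa using pHallJ g h.syl, by rw [← cj_sup, h.sup], by rw [card_cj, h.cA], by rw [card_cj, h.cB],
    by rw [← cj_inf, card_cj, h.cZ], EA.cj h.eA g, EA.cj h.eB g, ?_, ?_, ?_⟩
  · rintro _ ⟨t, ht, rfl⟩ e
    refine (h.inv t ht ?_).imp (conj_mem_cj g) (conj_mem_cj g)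
    rw [← map_mul] at e
    exact (MulAut.conj g).injective (e.trans (map_one _).symm)
  · rintro _ ⟨a, ha, rfl⟩ _ ⟨b, hb, rfl⟩ e
    rw [← map_mul, ← map_mul] at e
    exact (h.cen a ha b hb ((MulAut.conj g).injective e)).imp (conj_mem_cj g) (conj_mem_cj g)
  · rintro _ ⟨a, ha, rfl⟩ _ ⟨b, hb, rfl⟩
    rw [← cj_inf, ← map_inv, ← map_inv, ← map_mul, ← map_mul, ← map_mul]
    exact ⟨_, h.com a ha b hb, rfl⟩

theorem AT : A ≤ T := h.sup ▸ le_sup_left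
theorem BT : B ≤ T := h.symm.AT
theorem cc (ha : a ∈ A) (hb : b ∈ A) : a * b = b * a := EA.comm h.eA ha hb
theorem iA (ha : a ∈ A) : a⁻¹ = a := EA.inv h.eA ha
theorem AN : A ≤ N[B] := le_norm_iff.2 fun a ha b hb => by
  simpa using mul_mem (h.com a ha b hb).2 hb
theorem TN : T ≤ N[A] := h.sup ▸ sup_le (normG A) h.symm.AN
theorem dec (ht : t ∈ T) : ∃ a ∈ A, ∃ b ∈ B, t = a * b := (mem_sup_normr h.AN).1 (h.sup ▸ ht)
theorem cT : #T = 64 := by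
  have := card_sup_mul_inf (.inl h.AN)
  rw [h.sup, h.cA, h.cB, h.cZ] at this; omega
theorem ZC (hz : z ∈ A ⊓ B) : T ≤ C1[z] :=
  h.sup ▸ sup_le (fun _ ha => mem_cent1.2 (h.cc ha hz.1)) fun _ hb => mem_cent1.2 (h.symm.cc hb hz.2)
theorem cenA (ha : a ∈ A) (hB : a ∉ B) (ht : t ∈ T) (e : t * a = a * t) : t ∈ A := by
  obtain ⟨x, hx, y, hy, rfl⟩ := h.dec ht
  refine mul_mem hx ((h.cen a ha y hy (mul_left_cancel (a := x) ?_)).resolve_left hB)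
  rw [← mul_assoc, ← mul_assoc, e, h.cc hx ha, mul_assoc]
theorem fixB (ha : a ∈ A) (hb : b ∈ T) (hA : b ∉ A) : b * a = a * b ↔ a ∈ B :=
  ⟨fun e => by_contra fun n => hA (h.cenA ha n hb e), fun e => mem_cent1.1 (h.ZC ⟨ha, e⟩ hb)⟩
theorem ea (hX : X ≤ T) (e : ∀ x ∈ X, x * x = 1) : X ≤ A ∨ X ≤ B := by
  by_contra H
  rw [not_or] at H
  obtain ⟨v, hv, h1, h2⟩ := exists_not_two H.1 H.2
  exact (h.inv v (hX hv) (e v hv)).elim h1 h2
theorem ri : A.relIndex B = 4 := by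
  have := card_inf_mul_relIndex A B
  rw [h.cZ, h.cB] at this; omega
theorem nle : ¬ A ≤ B := fun e => by
  have := h.cZ
  rw [inf_eq_left.2 e, h.cA] at this; omega
theorem sA : SylowIn 2 T N[A] := pHall_subl h.TN le_top h.syl
theorem NT : N[T] ≤ N[A] := fun g hg => by
  have k : ∀ {g}, g ∈ N[T] → g ∉ N[A] → BG.cj g A = B := fun {g} hg n =>
    eq_of_card_le ((h.ea (cj_le_of_norm hg h.AT) (EA.cj h.eA g)).resolve_left fun e => n (mem_norm_of_cj_le e))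
      (by rw [card_cj, h.cA, h.cB])
  by_contra n
  have i : (N[A]).relIndex N[T] = 2 := by
    refine relIndex_eq_two_iff.2 ⟨g, hg, fun x hx => ?_⟩
    by_cases c : x ∈ N[A]
    · exact .inr ⟨c, fun e => n ((mul_mem_cancel_left c).1 e)⟩
    · refine .inl ⟨?_, c⟩
      by_contra d
      have e := k (mul_mem hx hg) d
      rw [cj_mul, k hg n] at e
      exact h.nle (cj_inj.1 (e.trans (k hx c).symm)).ge
  have := (pHall_subl (normG T) le_top h.syl).not_dvd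
  exact this (i ▸ relIndex_dvd_of_le_left _ (h.TN))
theorem wc (hg : BG.cj g A ≤ T) : BG.cj g A = A := by
  refine ((h.ea hg (EA.cj h.eA g)).imp (eq_of_card_le · (card_cj g A).ge)
    (eq_of_card_le · (by rw [card_cj, h.cA, h.cB]))).resolve_right fun e => ?_
  have s := (h.cj g).sA
  rw [e] at s
  obtain ⟨k, hk, e1⟩ := Sylow_trans s h.symm.sA
  have := cj_of_norm (h.NT (mem_norm.2 ((cj_mul _ _ _).trans e1.symm)))
  rw [cj_mul, e, cj_of_norm hk] at this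
  exact h.nle this.ge
theorem surj (ha : a ∈ A) (hB : a ∉ B) (hz : z ∈ A ⊓ B) : ∃ b ∈ B, a * b * a⁻¹ * b⁻¹ = z :=
  (idx_le (A := B) (B := A) (fun b => a * b * a⁻¹ * b⁻¹) (A ⊓ B : Subgroup G) (fun b hb => h.com a ha b hb)
    fun x hx y hy e => (h.cen a ha _ (mul_mem (inv_mem hx) hy) (by
      calc a * (x⁻¹ * y) = x⁻¹ * (a * x * a⁻¹ * x⁻¹)⁻¹ * a * y := by group
        _ = _ := by rw [show a * x * a⁻¹ * x⁻¹ = _ from e]; group)).resolve_left hB).2 (by rw [h.ri]; exact h.cZ.le) z hz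
theorem exZ : ∃ z ∈ A ⊓ B, z ≠ 1 := exists_ne_one fun e => by have := h.cZ; rw [e, card_bot] at this; omega

theorem eqZ (h' : Fr T' A B') (hb : b ∈ B) (hA : b ∉ A) (hn : b ∈ N[A ⊓ B']) : A ⊓ B = A ⊓ B' := by
  have := Nat.fact_prime_two
  have s : SylowIn 2 T' (N[A] ⊓ N[A ⊓ B']) := pHall_subl (le_inf h'.TN (normsI h'.TN h'.symm.TN)) le_top h'.syl
  obtain ⟨k, hk, e⟩ := Sylow_Jsub s (zpowers_le.2 ⟨h.symm.AN hb, hn⟩) (two_of_sq (h.eB b hb)).zpowers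
  have m := e (conj_mem_cj k (mem_zpowers b))
  have n : k * b * k⁻¹ ∉ A := mt (conj_mem_iff_of_norm hk.1).1 hA
  refine eq_of_card_le (fun x hx => (conj_mem_iff_of_norm hk.2).1 ⟨conj_mem_of_norm hk.1 hx.1,
    (h'.fixB (conj_mem_of_norm hk.1 hx.1) m n).1 ?_⟩) (by rw [h.cZ, h'.cZ])
  calc _ = k * (b * x) * k⁻¹ := by group
    _ = _ := by rw [h.symm.cc hb hx.2]; group

theorem disj' (h' : Fr T' A B') (hz : z ∈ A ⊓ B) (hz' : z ∈ B') (h1 : z ≠ 1) : A ⊓ B = A ⊓ B' := by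
  by_contra n
  have n' : ¬ A ⊓ B' ≤ B := fun e => n (eq_of_card_le (le_inf inf_le_left e) (by rw [h.cZ, h'.cZ])).symm
  obtain ⟨y, hy, hB⟩ := SetLike.not_le_iff_exists.1 n'
  obtain ⟨b, hb, e⟩ := h.surj hy.1 hB hz
  have i : B.relIndex (A ⊓ B') = 2 := by
    have c := card_inf_mul_relIndex B (A ⊓ B')
    have c1 : B.relIndex (A ⊓ B') ≠ 1 := mt relIndex_eq_one.1 n'
    have c2 : #(B ⊓ (A ⊓ B') : Subgroup G) ≠ 1 := fun e => h1 (mem_bot.1 (card_eq_one.1 e ▸ ⟨hz.2, hz.1, hz'⟩))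
    rw [h'.cZ] at c
    have c3 := Nat.le_of_dvd (by omega) (Dvd.intro_left _ c)
    generalize B.relIndex (A ⊓ B') = r at *
    generalize #(B ⊓ (A ⊓ B') : Subgroup G) = k at *
    interval_cases r <;> omega
  refine n (h.eqZ h' hb (fun c => h1 (by rw [← e, h.cc hy.1 c]; group)) (mem_norm_of_cj_le ?_))
  rintro _ ⟨u, hu, rfl⟩
  have f : ∀ u ∈ A ⊓ B', u ∈ B → b * u * b⁻¹ = u := fun u _ c => by rw [h.symm.cc hb c]; group
  show b * u * b⁻¹ ∈ _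
  by_cases c : u ∈ B
  · rwa [f u hu c]
  · have d : u * y ∈ B := (mul_mem_iff_of_index_two (H := B.subgroupOf (A ⊓ B')) i (a := ⟨u, hu⟩) (b := ⟨y, hy⟩)).2
      (iff_of_false c hB)
    have : b * u * b⁻¹ = b * (u * y) * b⁻¹ * y⁻¹ * (y * b * y⁻¹ * b⁻¹) := by group
    rw [this, f _ (mul_mem hu hy) d, e]
    exact mul_mem (mul_mem (mul_mem hu hy) (inv_mem hy)) ⟨hz.1, hz'⟩

theorem cjN (hg : g ∈ N[A]) : Fr (BG.cj g T) A (BG.cj g B) := cj_of_norm hg ▸ h.cj g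

theorem disj (hg : g ∈ N[A]) : BG.cj g (A ⊓ B) = A ⊓ B ∨ BG.cj g (A ⊓ B) ⊓ (A ⊓ B) = ⊥ := by
  rw [cj_inf, cj_of_norm hg, or_iff_not_imp_right]
  intro n
  obtain ⟨z, hz, h1⟩ := exists_ne_one n
  exact (h.cjN hg).disj' h hz.1 hz.2.2 h1

end Fr

end Cfsg.Agent.L34S
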