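import Cfsg.Agent.L34S.A
import Cfsg.Agent.SE.Odd
import Cfsg.Agent.S0217
import Cfsg.Agent.BG.S1
import Cfsg.Agent.BG.S3Gen
import Cfsg.Agent.Invol.StrongEmb

/-! General tools: control of fusion by a weakly closed abelian subgroup, the signalizer functor `O(C(a))`, and groups
with an elementary Sylow 2-subgroup of order 16 whose automizer is semiregular and intransitive. -/

set_option autoImplicit false
set_option linter.unusedSectionVars false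

namespace Cfsg.Agent.L34S

open Cfsg.Agent.BG Cfsg.Agent.CIT Subgroup

variable {G : Type*} [Group G] [Finite G] {S E Z M P : Subgroup G} {a b g t z : G}

theorem nrm (hS : SylowIn 2 S ⊤) (wc : ∀ g, cj g E ≤ S → cj g E = E) (hP : IsPGroup 2 P) (h : E ≤ P) :
    ∃ k ∈ N[E], cj k P ≤ S := by
  have := Nat.fact_prime_two
  obtain ⟨k, -, hk⟩ := Sylow_Jsub hS le_top hP
  exact ⟨k, mem_norm.2 (wc k ((cj_mono k h).trans hk)), hk⟩

theorem fus (hE : EA E) (hS : SylowIn 2 S ⊤) (wc : ∀ g, cj g E ≤ S → cj g E = E) (ha : a ∈ E)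
    (hb : g * a * g⁻¹ ∈ E) : ∃ n ∈ N[E], n * a * n⁻¹ = g * a * g⁻¹ := by
  have := Nat.fact_prime_two
  obtain ⟨P, hP, h1⟩ := Sylow_superset (hE.cent.trans (cent_le_cent1 hb)) hE.pg
  obtain ⟨c, hc, h2⟩ := Sylow_Jsub hP ((hE.cj g).cent.trans (cent_le_cent1 (conj_mem_cj g ha))) (hE.cj g).pg
  obtain ⟨k, hk, h3⟩ := nrm hS wc hP.pg h1
  have := mem_norm.2 (wc (k * (c * g)) (by rw [cj_mul, cj_mul]; exact (cj_mono k h2).trans h3))
  exact ⟨c * g, (mul_mem_cancel_left hk).1 this, by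
    calc _ = c * (g * a * g⁻¹) * c⁻¹ := by group
      _ = _ := by rw [mem_cent1.1 hc]; group⟩

theorem se (hS : SylowIn 2 S ⊤) (hM : S ≤ M) (hz : z ∈ S) (z2 : orderOf z = 2)
    (H : ∀ t ∈ S, orderOf t = 2 → ∀ g, g * t * g⁻¹ ∈ S → g ∈ M) : M = ⊤ ∨ IsStronglyEmbedded M := by
  have := Nat.fact_prime_two
  refine or_iff_not_imp_left.2 fun n => Invol.stronglyEmbedded_iff.2 ⟨n, ⟨z, hM hz, z2⟩, fun t ht t2 g hg => ?_⟩
  have s := pHall_subl hM le_top hS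
  have k : ∀ t ∈ M, orderOf t = 2 → ∃ m ∈ M, m * t * m⁻¹ ∈ S := fun t ht t2 =>
    (Sylow_Jsub s (zpowers_le.2 ht) (two_of_sq (sq_of_ord t2)).zpowers).imp fun m h =>
      ⟨h.1, h.2 (conj_mem_cj m (mem_zpowers t))⟩
  obtain ⟨m, hm, e⟩ := k t ht t2
  obtain ⟨n, hn, e'⟩ := k _ hg ((orderOf_conj' g t).trans t2)
  have := H _ e ((orderOf_conj' m t).trans t2) (n * g * m⁻¹) (by simpa [mul_assoc] using e')
  exact (mul_mem_cancel_left hn).1 ((mul_mem_cancel_right (inv_mem hm)).1 this)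

def Wf (E : Subgroup G) : Subgroup G := ⨆ a : {a : G // a ∈ E ∧ a ≠ 1}, Op' 2 C1[a.1]

theorem le_Wf (ha : a ∈ E) (h1 : a ≠ 1) : Op' 2 C1[a] ≤ Wf E :=
  le_iSup (fun a : {a : G // a ∈ E ∧ a ≠ 1} => Op' 2 C1[a.1]) ⟨a, ha, h1⟩

theorem norm_Wf : N[E] ≤ N[Wf E] := le_norm_of_cj_le fun g hg => by
  rw [Wf, cj_iSup]
  exact iSup_le fun a => by
    rw [Op', ← pcoreJ, ← C1_conj]
    exact le_Wf (conj_mem_of_norm hg a.2.1) (by simpa using a.2.2)

theorem sig (hE : EA E) (c : #E = 16) (hs : ∀ a ∈ E, a ≠ 1 → Group.IsSolvable C1[a]) :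
    Odd #(Wf E) ∧ ∀ a ∈ E, a ≠ 1 → Wf E ⊓ C1[a] = Op' 2 C1[a] := by
  have := Nat.fact_prime_two
  have o : ∀ a : G, Odd #(Op' 2 C1[a]) := fun a => pnat_odd.1 (pcore_pgroup _ _)
  refine (S0217.result (p := 2) E (fun a ha b hb => hE.comm ha hb) (fun a ha => by rw [pow_two, hE a ha])
    (by omega) (fun a => Op' 2 C1[a]) (fun a _ _ => pcore_sub _ _) (fun a _ _ => (o a).not_two_dvd_nat)
    (fun a ha _ b hb x hx => (pcore_normal _ _).conj_mem (mem_cent1.2 (hE.comm hb ha)) hx)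
    (fun a _ _ => SE.sol_of_odd (o a)) fun a ha _ b hb b1 => ?_).imp_left fun h => Nat.two_dvd_ne_zero.1 h |> Nat.odd_iff.2
  have := p'core_cent_pgroup (p := 2) (R := zpowers a) (zpowers_le.2 (mem_cent1.2 (hE.comm ha hb)))
    (two_of_sq (hE a ha)).zpowers (hs b hb b1)
  rw [C_zpowers] at this
  refine le_trans (pcore_max ?_ (pgroupS inf_le_left (pcore_pgroup _ _))) this
  exact ⟨le_inf inf_le_right (inf_le_left.trans (pcore_sub _ _)),
    normsI (inf_le_right.trans (pcore_normal _ _).norm) (normsG inf_le_left)⟩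

theorem Wf_eq (hE : EA E) (c : #E = 16) (hs : ∀ a ∈ E, a ≠ 1 → Group.IsSolvable C1[a]) (hZ : Z ≤ E) (cZ : #Z = 4) : Wf E = Wf Z := by
  obtain ⟨o, e⟩ := sig hE c hs
  refine le_antisymm (coprime_abelian_gen_cent1 (abelian_iff.2 (hE.mono hZ).cent) (fun h => ?_)
    (hZ.trans ((normG E).trans norm_Wf)) (by rw [cZ]; exact (Nat.coprime_two_right.2 o).pow_right 2)
    fun a ha a1 => (e a (hZ ha) a1).trans_le (le_Wf ha a1)) (iSup_le fun a => le_Wf (hZ a.2.1) a.2.2)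
  obtain ⟨g, hg⟩ := IsCyclic.exists_ofOrder_eq_natCard (α := Z)
  have := orderOf_le_of_pow_eq_one (x := g) two_pos (Subtype.ext (by rw [coe_pow, pow_two, hE _ (hZ g.2)]; rfl))
  omega

theorem odd_bot (hO : oddCore G = ⊥) (hM : M ⊴ ⊤) (hP : P ⊴ M) (o : Odd #P) : P = ⊥ := by
  have := Nat.fact_prime_two
  refine le_bot_iff.1 ((pcore_max hP (pnat_odd.2 o)).trans ((pcore_max (hM.pcore _) (pcore_pgroup _ _)).trans ?_))
  exact (Op'_top 2).trans_le hO.le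

theorem absyl (hE : EA E) (c : #E = 16) (hS : SylowIn 2 E ⊤) (hO : oddCore G = ⊥)
    (h1 : ∀ a ∈ E, a ≠ 1 → C1[a] ⊓ N[E] ≤ C[E]) (ha : a ∈ E) (hb : b ∈ E) (a1 : a ≠ 1) (b1 : b ≠ 1)
    (h2 : ∀ n ∈ N[E], n * a * n⁻¹ ≠ b) : E.Normal := by
  have := Nat.fact_prime_two
  have wc : ∀ g, cj g E ≤ E → cj g E = E := fun g h => eq_of_card_le h (card_cj g E).ge
  have bu : ∀ a ∈ E, a ≠ 1 → Sdprod (Op' 2 C1[a]) E C1[a] := fun a ha a1 =>
    Burnside_normal_complement (pHall_subl (hE.cent.trans (cent_le_cent1 ha)) le_top hS) (h1 a ha a1)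
  obtain ⟨o, -⟩ := sig hE c fun a ha a1 => (bu a ha a1).sup ▸ series_sol (normalYl (bu a ha a1).norm)
    (SE.sol_of_odd (pnat_odd.1 (pcore_pgroup _ _)))
    (by rw [quotientYidl (bu a ha a1).norm]; exact quotient_sol _ (pgroup_sol hE.pg))
  have n : N[E] ≤ N[Wf E ⊔ E] := normsY norm_Wf le_rfl
  rcases se (M := N[Wf E ⊔ E]) hS ((normG E).trans n) ha (hE.ord ha a1) (fun t ht t2 g hg => by
    obtain ⟨k, hk, e⟩ := fus hE hS wc ht hg
    refine (mul_mem_cancel_left (inv_mem (n hk))).1 (normG _ ?_)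
    refine ((bu t ht (ne_one_of_ord t2)).sup.ge.trans (sup_le_sup_right (le_Wf ht (ne_one_of_ord t2)) E)) (mem_cent1.2 ?_)
    calc _ = k⁻¹ * (g * t * g⁻¹) * g := by group
      _ = _ := by rw [← e]; group) with e | e
  · have q : Wf E ⊔ E ⊴ ⊤ := ⟨le_top, e.ge⟩
    rw [odd_bot hO q (normalYl ((normG E).trans norm_Wf)) o, bot_sup_eq] at q
    exact q.normal
  · obtain ⟨g, hg⟩ := isConj_iff.1 (Invol.SE.isConj e (hE.ord ha a1) (hE.ord hb b1))
    obtain ⟨k, hk, e⟩ := fus hE hS wc ha (hg ▸ hb)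
    exact absurd (e.trans hg) (h2 k hk)

end Cfsg.Agent.L34S
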