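import Cfsg.Agent.L34S.A
import Cfsg.Agent.Mult.L34c

/-! The frame `Fr` exists when a Sylow 2-subgroup is of type `L₃(4)` (`exists_fr`), and passes to quotients by
normal subgroups of odd order (`Fr.map`). -/

set_option autoImplicit false
set_option linter.unusedSectionVars false

namespace Cfsg.Agent.L34S

open Cfsg.Agent.BG Cfsg.Agent.Mult Subgroup

variable {G : Type*} [Group G] [Finite G] {T A B : Subgroup G}

theorem fr_of_param {F : Type*} [Field F] [Fintype F] (hF : Fintype.card F = 4) (u : F → F → F → G)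
    (hm : ∀ a b c a' b' c', u a b c * u a' b' c' = u (a + a') (b + b') (c + c' + a * b'))
    (hi : ∀ {a b c a' b' c'}, u a b c = u a' b' c' → a = a' ∧ b = b' ∧ c = c')
    (hT : ∀ t, t ∈ T ↔ ∃ a b c, t = u a b c) (hS : SylowIn 2 T ⊤) : ∃ A B, Fr T A B := by
  have h2 : (2 : F) = 0 := by
    have := FiniteField.cast_card_eq_zero F
    rw [hF] at this
    exact pow_eq_zero_iff (n := 2) two_ne_zero |>.1 (by rw [← this]; norm_num)
  have aa : ∀ a : F, a + a = 0 := fun a => by rw [← two_mul, h2, zero_mul]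
  have h0 : u 0 0 0 = 1 := mul_left_cancel (a := u 0 0 0) (by simp [hm])
  have hv : ∀ a b c, (u a b c)⁻¹ = u a b (a * b + c) := fun a b c =>
    inv_eq_of_mul_eq_one_right (by rw [hm, aa, aa, ← h0]; congr 1; linear_combination (c + a * b) * h2)
  let A : Subgroup G :=
    { carrier := {t | ∃ a c, t = u a 0 c}
      mul_mem' := by rintro _ _ ⟨a, c, rfl⟩ ⟨a', c', rfl⟩; exact ⟨_, _, by rw [hm, add_zero]⟩
      one_mem' := ⟨0, 0, h0.symm⟩
      inv_mem' := by rintro _ ⟨a, c, rfl⟩; exact ⟨_, _, hv _ _ _⟩ }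
  let B : Subgroup G :=
    { carrier := {t | ∃ b c, t = u 0 b c}
      mul_mem' := by rintro _ _ ⟨a, c, rfl⟩ ⟨a', c', rfl⟩; exact ⟨_, _, by rw [hm, add_zero]⟩
      one_mem' := ⟨0, 0, h0.symm⟩
      inv_mem' := by rintro _ ⟨a, c, rfl⟩; exact ⟨_, _, hv _ _ _⟩ }
  have mA : ∀ a c, u a 0 c ∈ A := fun a c => ⟨a, c, rfl⟩
  have mB : ∀ b c, u 0 b c ∈ B := fun a c => ⟨a, c, rfl⟩
  refine ⟨A, B, hS, le_antisymm (sup_le ?_ ?_) ?_, ?_, ?_, ?_, ?_, ?_, ?_, ?_, ?_⟩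
  · rintro _ ⟨a, c, rfl⟩; exact (hT _).2 ⟨_, _, _, rfl⟩
  · rintro _ ⟨a, c, rfl⟩; exact (hT _).2 ⟨_, _, _, rfl⟩
  · intro t ht
    obtain ⟨a, b, c, rfl⟩ := (hT t).1 ht
    have : u a b c = u 0 b 0 * u a 0 c := by simp [hm]
    rw [this]
    exact mul_mem (mem_sup_right (mB b 0)) (mem_sup_left (mA a c))
  · rw [← Nat.card_eq_of_bijective (fun p : F × F => (⟨u p.1 0 p.2, mA _ _⟩ : A)) ⟨fun p q e => ?_, ?_⟩]
    · simp [hF]
    · rintro ⟨_, a, c, rfl⟩; exact ⟨(a, c), rfl⟩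
    · obtain ⟨h1, -, h3⟩ := hi (congrArg Subtype.val e); exact Prod.ext h1 h3
  · rw [← Nat.card_eq_of_bijective (fun p : F × F => (⟨u 0 p.1 p.2, mB _ _⟩ : B)) ⟨fun p q e => ?_, ?_⟩]
    · simp [hF]
    · rintro ⟨_, a, c, rfl⟩; exact ⟨(a, c), rfl⟩
    · obtain ⟨-, h1, h3⟩ := hi (congrArg Subtype.val e); exact Prod.ext h1 h3
  · rw [← Nat.card_eq_of_bijective (fun c : F => (⟨u 0 0 c, mA _ _, mB _ _⟩ : (A ⊓ B : Subgroup G)))
      ⟨fun p q e => (hi (congrArg Subtype.val e)).2.2, ?_⟩]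
    · simp [hF]
    · rintro ⟨_, ⟨a, c, rfl⟩, b, c', e⟩
      obtain ⟨rfl, -, -⟩ := hi e
      exact ⟨c, rfl⟩
  · rintro _ ⟨a, c, rfl⟩; simp [hm, aa, h0]
  · rintro _ ⟨a, c, rfl⟩; simp [hm, aa, h0]
  · intro t ht e
    obtain ⟨a, b, c, rfl⟩ := (hT t).1 ht
    rw [hm, ← h0] at e
    have h3 := (hi e).2.2
    rw [aa, zero_add, mul_eq_zero] at h3
    rcases h3 with rfl | rfl
    · exact .inr (mB _ _)
    · exact .inl (mA _ _)
  · rintro _ ⟨a, c, rfl⟩ _ ⟨b, c', rfl⟩ e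
    rw [hm, hm] at e
    have h3 : a * b = 0 := by linear_combination (hi e).2.2
    rcases mul_eq_zero.1 h3 with rfl | rfl
    · exact .inl (mB _ _)
    · exact .inr (mA _ _)
  · rintro _ ⟨a, c, rfl⟩ _ ⟨b, c', rfl⟩
    rw [hv, hv, hm, hm, hm]
    simp only [add_zero, zero_add, aa]
    exact ⟨mA _ _, mB _ _⟩

theorem exists_fr {F : Type*} [Field F] [Fintype F] (hF : Fintype.card F = 4) (S : Sylow 2 G)
    (P : Sylow 2 (Matrix.ProjectiveSpecialLinearGroup (Fin 3) F)) (e : S ≃* P) :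
    ∃ A B, Fr (S : Subgroup G) A B := by
  obtain ⟨Q, ⟨e1⟩⟩ := l3_sylow (F := F) (n := 2) (by norm_num) hF
  let f : l3U F ≃* S := (e1.trans (Sylow.equiv Q P)).trans e.symm
  refine fr_of_param hF (fun a b c => (f ⟨l3u a b c, a, b, c, rfl⟩ : G)) (fun a b c a' b' c' => ?_)
    (fun h => l3u_inj (congrArg Subtype.val (f.injective (Subtype.ext h)))) (fun t => ⟨fun ht => ?_, ?_⟩)
    (sylowIn_top S)
  · rw [← coe_mul, ← map_mul]
    exact congrArg (fun x => (f x : G)) (Subtype.ext (l3u_mul ..))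
  · obtain ⟨⟨_, a, b, c, rfl⟩, hx⟩ := f.surjective ⟨t, ht⟩
    exact ⟨a, b, c, (congrArg Subtype.val hx).symm⟩
  · rintro ⟨a, b, c, rfl⟩; exact (f _).2

theorem Fr.map {H : Type*} [Group H] [Finite H] (h : Fr T A B) (π : G →* H) (hs : Function.Surjective π)
    (ho : Odd #π.ker) : Fr (T.map π) (A.map π) (B.map π) := by
  have h1 : ∀ t ∈ T, π t = 1 → t = 1 := fun t ht e => by
    have d1 : orderOf t ∣ 64 := h.cT ▸ orderOf_dvd_natCard T ht
    have d2 : orderOf t ∣ #π.ker := orderOf_dvd_natCard _ e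
    exact orderOf_eq_one_iff.1 (Nat.eq_one_of_dvd_coprimes
      ((Nat.coprime_two_left.2 ho).pow_left 6) d1 d2)
  have hi : ∀ s ∈ T, ∀ t ∈ T, π s = π t → s = t := fun s hs t ht e =>
    mul_inv_eq_one.1 (h1 _ (mul_mem hs (inv_mem ht)) (by rw [map_mul, map_inv, e, mul_inv_cancel]))
  have hc : ∀ X ≤ T, #(X.map π) = #X := fun X hX =>
    (Nat.card_eq_of_bijective (fun x : X => (⟨π x, x, x.2, rfl⟩ : X.map π))
      ⟨fun x y e => Subtype.ext (hi _ (hX x.2) _ (hX y.2) (congrArg Subtype.val e)),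
        by rintro ⟨_, x, hx, rfl⟩; exact ⟨⟨x, hx⟩, rfl⟩⟩).symm
  have hI : A.map π ⊓ B.map π = (A ⊓ B).map π := by
    refine le_antisymm ?_ (map_inf_le ..)
    rintro _ ⟨⟨a, ha, rfl⟩, b, hb, e⟩
    exact ⟨a, ⟨ha, hi _ (h.BT hb) _ (h.AT ha) e ▸ hb⟩, rfl⟩
  refine ⟨by simpa [map_top_of_surjective π hs] using pHall_map π h.syl, by rw [← Subgroup.map_sup, h.sup],
    by rw [hc _ h.AT, h.cA], by rw [hc _ h.BT, h.cB], by rw [hI, hc _ (inf_le_left.trans h.AT), h.cZ],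
    ?_, ?_, ?_, ?_, ?_⟩
  · rintro _ ⟨a, ha, rfl⟩; rw [← map_mul, h.eA a ha, map_one]
  · rintro _ ⟨a, ha, rfl⟩; rw [← map_mul, h.eB a ha, map_one]
  · rintro _ ⟨t, ht, rfl⟩ e
    exact (h.inv t ht (h1 _ (mul_mem ht ht) (by rw [map_mul, e]))).imp (mem_map_of_mem π) (mem_map_of_mem π)
  · rintro _ ⟨a, ha, rfl⟩ _ ⟨b, hb, rfl⟩ e
    rw [← map_mul, ← map_mul] at e
    exact (h.cen a ha b hb (hi _ (mul_mem (h.AT ha) (h.BT hb)) _ (mul_mem (h.BT hb) (h.AT ha)) e)).imp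
      (mem_map_of_mem π) (mem_map_of_mem π)
  · rintro _ ⟨a, ha, rfl⟩ _ ⟨b, hb, rfl⟩
    rw [hI, ← map_inv, ← map_inv, ← map_mul, ← map_mul, ← map_mul]
    exact ⟨_, h.com a ha b hb, rfl⟩

end Cfsg.Agent.L34S
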