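import Cfsg.Agent.L34S.B
import Cfsg.Agent.L34S.P0
import Cfsg.Agent.HJS.Norm
import Cfsg.Agent.S1221

/-! Local analysis of groups with a frame: either `A` or `B` is normal modulo the core, or involution centralizers are
2-closed and both normalizers are transitive on involutions. -/

set_option autoImplicit false
set_option linter.unusedSectionVars false

namespace Cfsg.Agent.L34S

open Cfsg.Agent.BG Cfsg.Agent.CIT Subgroup

universe u
variable {G : Type u} [Group G] [Finite G] {T A B M : Subgroup G} {a b g t x y z : G}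

def Tr (A : Subgroup G) : Prop := ∀ a ∈ A, a ≠ 1 → ∀ b ∈ A, b ≠ 1 → ∃ n ∈ N[A], n * a * n⁻¹ = b

theorem step {n : ℕ} (o : Odd n) (hn : x ^ n * a = a * x ^ n) (hy : x * y = y * x) (y2 : y * y = 1)
    (c : x * a * x⁻¹ = a * y) : x * a = a * x := by
  obtain ⟨k, rfl⟩ := o
  have h2 : x * x ∈ C1[a] := mem_cent1.2 (mul_inv_eq_iff_eq_mul.1 (calc
    _ = x * (x * a * x⁻¹) * x⁻¹ := by group
    _ = x * (a * y) * x⁻¹ := by rw [c]
    _ = x * a * x⁻¹ * (x * y * x⁻¹) := by group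
    _ = a := by rw [c, hy, mul_inv_cancel_right, mul_assoc, y2, mul_one]))
  rw [← mem_cent1, pow_succ, pow_mul, _root_.sq] at hn
  exact mem_cent1.1 ((mul_mem_cancel_left (pow_mem h2 k)).1 hn)

namespace Fr
variable (h : Fr T A B)
include h

theorem move (ha : a ∈ A) (hB : a ∉ B) (hz : z ∈ A ⊓ B) : ∃ n ∈ N[A], n * a * n⁻¹ = a * z := by
  obtain ⟨b, hb, e⟩ := h.surj ha hB hz
  exact ⟨b, h.symm.AN hb, by rw [← e, ← mul_assoc, ← mul_assoc, ← mul_assoc, h.eA a ha, one_mul, h.iA ha]⟩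

theorem tr_or : Tr A ∨ N[A] ≤ N[A ⊓ B] := by
  refine or_iff_not_imp_right.2 fun n => ?_
  obtain ⟨g, hg, n⟩ := SetLike.not_le_iff_exists.1 n
  have d := (h.disj hg).resolve_left (mt mem_norm.2 n)
  have h' := h.cjN hg
  rw [cj_inf, cj_of_norm hg] at d
  have s : (A ⊓ BG.cj g B) ⊔ (A ⊓ B) = A := eq_of_card_le (sup_le inf_le_left inf_le_left) (by
    rw [card_sup_TI (.inl (inf_le_left.trans (cents_norm (centsS inf_le_left (EA.cent h.eA))))) d, h'.cZ, h.cZ, h.cA])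
  have q : ∀ u, u ∈ A ⊓ BG.cj g B → u ∈ B → u = 1 := fun u h1 h2 => mem_bot.1 (d.le ⟨h1, h1.1, h2⟩)
  have k : ∀ z ∈ A ⊓ B, z ≠ 1 → ∀ a ∈ A, a ∉ B → ∃ n ∈ N[A], n * z * n⁻¹ = a := fun z hz z1 a ha hB => by
    obtain ⟨u, hu, v, hv, rfl⟩ := (mem_sup_normr (inf_le_left.trans (cents_norm (centsS inf_le_left (EA.cent h.eA))))).1
      (s.ge ha)
    obtain ⟨n, hn, e⟩ := h'.move hz.1 (fun c => z1 (q z ⟨hz.1, c⟩ hz.2)) hu
    obtain ⟨m, hm, e'⟩ := h.move (mul_mem hz.1 hu.1) (fun c => hB (mul_mem ((mul_mem_cancel_left (mem_inf.1 hz).2).1 c) hv.2))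
      (mul_mem hz hv)
    refine ⟨m * n, mul_mem hm hn, ?_⟩
    calc _ = m * (n * z * n⁻¹) * m⁻¹ := by group
      _ = _ := by rw [e, e', h.cc hz.1 hu.1, mul_assoc, ← mul_assoc z, h.eA z hz.1, one_mul]
  obtain ⟨z, hz, z1⟩ := h.exZ
  obtain ⟨c, hc, cB⟩ := SetLike.not_le_iff_exists.1 h.nle
  have k2 : ∀ a ∈ A, a ≠ 1 → ∃ n ∈ N[A], n * a * n⁻¹ = c := fun a ha a1 => by
    by_cases e : a ∈ B
    · exact k a ⟨ha, e⟩ a1 c hc cB
    · obtain ⟨n, hn, rfl⟩ := k z hz z1 a ha e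
      obtain ⟨m, hm, rfl⟩ := k z hz z1 c hc cB
      exact ⟨m * n⁻¹, mul_mem hm (inv_mem hn), by group⟩
  intro a ha a1 b hb b1
  obtain ⟨n, hn, e⟩ := k2 a ha a1
  obtain ⟨m, hm, e'⟩ := k2 b hb b1
  refine ⟨m⁻¹ * n, mul_mem (inv_mem hm) hn, ?_⟩
  calc _ = m⁻¹ * (n * a * n⁻¹) * m := by group
    _ = _ := by rw [e, ← e']; group

theorem strong (hN : N[A] ≤ N[A ⊓ B]) : IsStronglyClosed B T := by
  have := Nat.fact_prime_two
  refine ⟨h.BT, fun b hb g hg => by_contra fun n => ?_⟩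
  have hA := (h.inv _ hg (EA.cj h.eB g _ (conj_mem_cj g hb))).resolve_right n
  obtain ⟨P, hP, h1⟩ := Sylow_superset ((EA.cent h.eA).trans (cent_le_cent1 hA)) (EA.pg h.eA)
  obtain ⟨k, hk, h2⟩ := nrm h.syl (fun _ => h.wc) hP.pg h1
  have h3 : P ≤ A := fun t ht => by_contra fun c => n ((conj_mem_iff_of_norm (hN hk)).1 ⟨conj_mem_of_norm hk hA,
    (h.fixB (conj_mem_of_norm hk hA) (h2 (conj_mem_cj k ht)) (mt (conj_mem_iff_of_norm hk).1 c)).1 (by
      calc _ = k * (t * (g * b * g⁻¹)) * k⁻¹ := by group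
        _ = _ := by rw [mem_cent1.1 (hP.le ht)]; group)⟩).2
  obtain ⟨c, -, h4⟩ := Sylow_Jsub hP ((EA.cj h.eB g).cent.trans (cent_le_cent1 (conj_mem_cj g hb))) (EA.cj h.eB g).pg
  rw [← cj_mul] at h4
  exact h.symm.nle ((h.symm.wc (h4.trans (h3.trans h.AT))).ge.trans (h4.trans h3))

theorem normal (hO : oddCore G = ⊥) (sc : IsStronglyClosed A T) : A.Normal := by
  have := Nat.fact_prime_two
  set K := normalClosure (A : Set G) with hK
  have AK : A ≤ K := le_normalClosure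
  have s : SylowIn 2 A K := by
    have := Sylow_setI_normal (normal_top K) h.syl
    rwa [show K ⊓ T = A from le_antisymm (fun t ht => by
      obtain ⟨a, ha, b, hb, rfl⟩ := h.dec ht.2
      exact mul_mem ha (HJS.gold_omega (h.syl.pg.toSylow (relIndex_top_right T ▸ h.syl.not_dvd)) A
        (abelian_iff.2 (EA.cent h.eA)) sc (fun a ha => by rw [pow_two, h.eA a ha]) (h.BT hb)
        ((mul_mem_cancel_left (AK ha)).1 ht.1) (by rw [pow_two, h.eB b hb]))) (le_inf AK h.AT)] at this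
  have s' : SylowIn 2 A (K ⊓ N[A]) := pHall_subl (le_inf AK (normG A)) inf_le_left s
  have o : Odd (A.relIndex (K ⊓ N[A])) := Nat.not_even_iff_odd.1 fun c => s'.not_dvd c.two_dvd
  have od : ∀ x ∈ K ⊓ N[A], ∀ a ∈ A, x ^ A.relIndex (K ⊓ N[A]) * a = a * x ^ A.relIndex (K ⊓ N[A]) := fun x hx a ha => by
    have := (NormalIn.subgroupOf (⟨le_inf AK (normG A), inf_le_right⟩ : A ⊴ K ⊓ N[A]))
    exact h.cc (pow_index_mem (A.subgroupOf (K ⊓ N[A])) ⟨x, hx⟩) ha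
  have nZ : K ⊓ N[A] ≤ N[A ⊓ B] := by
    have c : #(B /ᵍ A) = 4 := (card_quotient h.symm.AN).trans h.ri
    refine le_trans ((quotientSGK (B := N[A] ⊓ N[A ⊓ B]) inf_le_right
      (le_inf (normG A) (normsI (normG A) h.AN))).1 ?_) inf_le_right
    refine coprime_abelian_gen_cent1 (quotient_abelian A (abelian_iff.2 (EA.cent h.eB))) (fun e => ?_)
      (quotient_norms A (normsI (norm_of_normal K B) (norms_norm h.symm.AN)))
      (by rw [c, card_quotient inf_le_right]; exact (Nat.coprime_two_right.2 o).pow_right 2) ?_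
    · obtain ⟨⟨g, hg⟩, e⟩ := IsCyclic.exists_ofOrder_eq_natCard (α := B /ᵍ A)
      obtain ⟨b, hb, bn, rfl⟩ := mem_quotient_iff.1 hg
      have := orderOf_le_of_pow_eq_one (x := (⟨_, hg⟩ : B /ᵍ A)) two_pos (Subtype.ext (by
        rw [coe_pow, pow_two, ← coset_mul bn bn, h.eB b hb, coset_one]; rfl))
      omega
    · rintro _ hb' b1 _ ⟨hx', e⟩
      obtain ⟨b, hb, bn, rfl⟩ := mem_quotient_iff.1 hb'
      obtain ⟨x, hx, xn, rfl⟩ := mem_quotient_iff.1 hx'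
      refine mem_quotient xn ⟨xn, mem_norm_of_cj_le ?_⟩
      rintro _ ⟨z, hz, rfl⟩
      have m := conj_mem_of_norm xn hz.1
      replace e := mem_cent1.1 e
      rw [← coset_mul xn bn, ← coset_mul bn xn, coset_eq_iff (mul_mem xn bn) (mul_mem bn xn)] at e
      refine ⟨m, (h.fixB m (h.BT hb) (mt coset_id b1)).1 ?_⟩
      calc b * (x * z * x⁻¹) = x * b * ((x * b)⁻¹ * (b * x) * z) * x⁻¹ := by group
        _ = x * (b * z) * ((x * b)⁻¹ * (b * x)) * x⁻¹ := by rw [h.cc e hz.1]; group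
        _ = _ := by rw [h.symm.cc hb hz.2]; group
  have cm : ∀ x ∈ K ⊓ N[A], ∀ b ∈ B, ∀ a ∈ A, x * b * x⁻¹ * b⁻¹ * a = a * (x * b * x⁻¹ * b⁻¹) := fun x hx b hb a ha => by
    have cz : ∀ z ∈ A ⊓ B, x * b * x⁻¹ * b⁻¹ * z = z * (x * b * x⁻¹ * b⁻¹) := fun z hz => by
      calc _ = x * (b * (x⁻¹ * (b⁻¹ * z) * x)) * x⁻¹ := by group
        _ = x * (b * (x⁻¹ * z * x)) * x⁻¹ * b⁻¹ := by rw [h.symm.cc (inv_mem hb) hz.2]; group
        _ = _ := by rw [h.symm.cc hb (conj_mem_of_norm' (nZ hx) hz).2]; group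
    have a1 := conj_mem_of_norm' (h.symm.AN hb) ha
    have z1 := h.com a ha _ (inv_mem hb)
    have z2 := conj_mem_of_norm (nZ hx) (h.com _ (conj_mem_of_norm' hx.2 a1) b hb)
    refine step o (od _ (mem_inf.2 ⟨?_, ?_⟩) a ha) (cz _ (mul_mem z1 z2)) (h.eA _ (mul_mem z1 z2).1) ?_
    · simpa [mul_assoc] using mul_mem hx.1 (Normal.conj_mem inferInstance _ (inv_mem hx.1) b)
    · exact mul_mem (mul_mem (mul_mem (mem_inf.1 hx).2 (h.symm.AN hb)) (inv_mem (mem_inf.1 hx).2)) (inv_mem (h.symm.AN hb))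
    · have e1 := h.eA a ha
      have e2 := h.eA _ a1
      calc _ = (b⁻¹ * a * b)⁻¹ * (x * (x⁻¹ * (b⁻¹ * a * b) * x * b * (x⁻¹ * ((b⁻¹ * a * b)⁻¹)⁻¹ * x) * b⁻¹) * x⁻¹) := by group
        _ = a * a * (b⁻¹ * a⁻¹ * b) * (x * (x⁻¹ * (b⁻¹ * a * b) * x * b * (x⁻¹ * (b⁻¹ * a * b)⁻¹ * x) * b⁻¹) * x⁻¹) := by
          rw [h.iA (inv_mem a1), e1]; group
        _ = _ := by group
  have ev : ∀ x ∈ K ⊓ N[A], ∀ b ∈ B, ∀ a ∈ A, x * (a * b * a⁻¹ * b⁻¹) * x⁻¹ = x * a * x⁻¹ * b * (x * a * x⁻¹)⁻¹ * b⁻¹ :=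
    fun x hx b hb a ha => by
      have := cm x hx b hb _ (conj_mem_of_norm (h.symm.AN hb) (inv_mem (conj_mem_of_norm hx.2 ha)))
      calc _ = x * a * x⁻¹ * (x * b * x⁻¹ * b⁻¹ * (b * (x * a * x⁻¹)⁻¹ * b⁻¹)) * (x * b * x⁻¹ * b⁻¹)⁻¹ := by group
        _ = _ := by rw [this]; group
  have h1 : ∀ x ∈ K ⊓ N[A], ∀ a ∈ A, a ≠ 1 → x * a = a * x → x ∈ C[A] := fun x hx a ha a1 e => by
    have cz : ∀ z ∈ A ⊓ B, x * z = z * x := fun z hz => by
      by_cases c : a ∈ B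
      · have i : (zpowers a).relIndex (A ⊓ B) = 2 := by
          have := card_mul_relIndex (show zpowers a ≤ A ⊓ B from zpowers_le.2 ⟨ha, c⟩)
          rw [h.cZ, Nat.card_zpowers, EA.ord h.eA ha a1] at this; omega
        have ca : zpowers a ≤ C1[x] := zpowers_le.2 (mem_cent1.2 e.symm)
        have m := conj_mem_of_norm (nZ hx) hz
        have : z * (x * z * x⁻¹) ∈ zpowers a :=
          (mul_mem_iff_of_index_two (H := (zpowers a).subgroupOf (A ⊓ B)) i (a := ⟨z, hz⟩) (b := ⟨_, m⟩)).2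
            (conj_mem_iff_of_norm (cent1_le_norm_zpowers a (mem_cent1.2 e))).symm
        exact step o (od x hx z hz.1) (mem_cent1.1 (ca this)).symm (h.eA _ (mul_mem hz m).1)
          (by rw [← mul_assoc z, h.eA z hz.1, one_mul])
      · obtain ⟨b, hb, rfl⟩ := h.surj ha c hz
        rw [← mul_inv_eq_iff_eq_mul, ev x hx b hb a ha, e, mul_inv_cancel_right]
    obtain ⟨b, hb, bA⟩ := SetLike.not_le_iff_exists.1 h.symm.nle
    refine mem_cent.2 fun u hu => Eq.symm ?_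
    have m := mul_mem hu (conj_mem_of_norm hx.2 hu)
    have := ev x hx b hb u hu
    rw [cz _ (h.com u hu b hb), mul_inv_cancel_right] at this
    have k : u * (x * u * x⁻¹) ∈ A ⊓ B := ⟨m, (h.fixB m (h.BT hb) bA).1 (by
      have c := h.cc hu (conj_mem_of_norm (h.symm.AN hb) (conj_mem_of_norm hx.2 hu))
      have e2 := h.eA _ (conj_mem_of_norm hx.2 hu)
      have e1 := h.eA u hu
      rw [h.iA hu, h.iA (conj_mem_of_norm hx.2 hu)] at this
      generalize x * u * x⁻¹ = w at *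
      calc b * (u * w) = u⁻¹ * (u * b * u * b⁻¹) * (b * w * b⁻¹) * b := by group
        _ = u⁻¹ * w * b * (w * w) := by rw [this]; group
        _ = _ := by rw [e2, h.iA hu, mul_one])⟩
    exact step o (od x hx u hu) (cz _ k) (h.eA _ m) (by rw [← mul_assoc u, h.eA u hu, one_mul])
  have tN : ∀ x : K, x ∈ N[A.subgroupOf K] → (x : G) ∈ K ⊓ N[A] := fun x hx => ⟨x.2, mem_norm_of_cj_le (by
    rintro _ ⟨a, ha, rfl⟩
    exact mem_subgroupOf.1 (conj_mem_of_norm hx (show (⟨a, AK ha⟩ : K) ∈ A.subgroupOf K from ha)))⟩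
  obtain ⟨z, hz, z1⟩ := h.exZ
  obtain ⟨c, hc, cB⟩ := SetLike.not_le_iff_exists.1 h.nle
  have := absyl (E := A.subgroupOf K) (a := ⟨z, AK hz.1⟩) (b := ⟨c, AK hc⟩) (fun a ha => Subtype.ext (h.eA a ha))
    ((card_subgroupOf AK).trans h.cA) (subgroupOf_self K ▸ pHall_subgroupOf le_rfl s)
    ((map_eq_bot_iff_of_injective _ K.subtype_injective).1 (le_bot_iff.1 (hO ▸ Solv.map_subtype_pPrimeCore_le K)))
    (fun a ha a1 x hx => cent_subgroupOf AK ▸ h1 x (tN x hx.2) a ha (fun e => a1 (Subtype.ext e))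
      (congrArg Subtype.val (mem_cent1.1 hx.1)))
    hz.1 hc (fun e => z1 (congrArg Subtype.val e)) (fun e => cB (by rw [show c = 1 from congrArg Subtype.val e]; exact one_mem B))
    fun n hn e => cB (by
      rw [← show (n : G) * z * (n : G)⁻¹ = c from congrArg Subtype.val e]; exact (conj_mem_of_norm (nZ (tN n hn)) hz).2)
  have nK := (normal_of_subgroupOf AK this).norm
  have := Frattini_arg (normal_top K) s
  exact normalizer_eq_top_iff.1 (top_le_iff.1 (this.ge.trans (sup_le nK inf_le_right)))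

theorem sub (hM : T ≤ M) : Fr (T.subgroupOf M) (A.subgroupOf M) (B.subgroupOf M) :=
  ⟨subgroupOf_self M ▸ pHall_subgroupOf le_rfl (pHall_subl hM le_top h.syl),
    by rw [← subgroupOf_sup (h.AT.trans hM) (h.BT.trans hM), h.sup], (card_subgroupOf (h.AT.trans hM)).trans h.cA,
    (card_subgroupOf (h.BT.trans hM)).trans h.cB, (card_subgroupOf (inf_le_left.trans (h.AT.trans hM))).trans h.cZ,
    fun a ha => Subtype.ext (h.eA a ha), fun a ha => Subtype.ext (h.eB a ha),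
    fun t ht e => h.inv t ht (congrArg Subtype.val e), fun a ha b hb e => h.cen a ha b hb (congrArg Subtype.val e),
    fun a ha b hb => h.com a ha b hb⟩

theorem cenB (hO : oddCore G = ⊥) (hz : z ∈ A ⊓ B) (z1 : z ≠ 1) (hc : ∀ g, g * z = z * g) : B.Normal :=
  h.symm.normal hO (h.strong fun g hg => mem_norm.2 ((h.disj hg).resolve_right fun e =>
    z1 (mem_bot.1 (e.le ⟨mem_cj.2 (by rwa [hc, inv_mul_cancel_right]), hz⟩))))

theorem cent (hz : z ∈ A ⊓ B) (z1 : z ≠ 1) : T ⊔ Op' 2 C1[z] ⊴ C1[z] := by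
  have := Nat.fact_prime_two
  let π := QuotientGroup.mk' (pPrimeCore 2 C1[z])
  have hk : π.ker = pPrimeCore 2 C1[z] := QuotientGroup.ker_mk' _
  have hπ : Function.Surjective π := QuotientGroup.mk'_surjective _
  have o : Odd #π.ker := by
    have := pnat_odd.1 (pcore_pgroup {2}ᶜ C1[z])
    rwa [← Op', Op'_eq, card_map_of_injective (subtype_injective _), ← hk] at this
  have h' := (h.sub (h.ZC hz)).map π hπ o
  have m : π ⟨z, cent1_self z⟩ ∈ (A.subgroupOf C1[z]).map π ⊓ (B.subgroupOf C1[z]).map π :=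
    ⟨mem_map_of_mem π hz.1, mem_map_of_mem π hz.2⟩
  have n : π ⟨z, cent1_self z⟩ ≠ 1 := fun e => by
    have := o.of_dvd_nat (orderOf_dvd_natCard π.ker e)
    rw [← orderOf_coe, EA.ord h.eA hz.1 z1] at this
    exact absurd this (by decide)
  have c : ∀ g, g * π ⟨z, cent1_self z⟩ = π ⟨z, cent1_self z⟩ * g := hπ.forall.2 fun g => by
    rw [← map_mul, ← map_mul]; exact congrArg π (Subtype.ext (mem_cent1.1 g.2))
  have := h'.cenB Sig.pPrimeCore_quotient m n c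
  have := h'.symm.cenB Sig.pPrimeCore_quotient ⟨m.2, m.1⟩ n c
  have : ((T.subgroupOf C1[z]).map π).Normal := h'.sup ▸ inferInstance
  have := normal_map_subtype (M := C1[z]) (this.comap π)
  rwa [comap_map_eq, Subgroup.map_sup, map_subgroupOf_eq_of_le (h.ZC hz), hk, ← Op'_eq] at this

theorem sol (hz : z ∈ A ⊓ B) (z1 : z ≠ 1) : Group.IsSolvable C1[z] := by
  have := Nat.fact_prime_two
  have n : T ≤ N[Op' 2 C1[z]] := (h.ZC hz).trans (pcore_normal _ _).norm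
  refine series_sol (h.cent hz z1) (series_sol (normalYr n) (SE.sol_of_odd (pnat_odd.1 (pcore_pgroup _ _)))
    (by rw [quotientYidr n]; exact quotient_sol _ (pgroup_sol h.syl.pg))) (SE.sol_of_odd ?_)
  rw [card_quotient (h.cent hz z1).norm]
  exact Nat.not_even_iff_odd.1 fun c => (pHall_subl (h.ZC hz) le_top h.syl).not_dvd
    (c.two_dvd.trans (relIndex_dvd_of_le_left _ le_sup_left))

theorem centle (hz : z ∈ A ⊓ B) (z1 : z ≠ 1) : C1[z] ≤ Op' 2 C1[z] ⊔ N[T] := by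
  have := Nat.fact_prime_two
  exact (Frattini_arg (h.cent hz z1) (pHall_subl le_sup_left le_top h.syl)).ge.trans
    (sup_le (sup_le (le_sup_of_le_right (normG T)) le_sup_left) (le_sup_of_le_right inf_le_right))

theorem solA (tA : Tr A) (ha : a ∈ A) (a1 : a ≠ 1) : Group.IsSolvable C1[a] := by
  obtain ⟨z, hz, z1⟩ := h.exZ
  obtain ⟨n, hn, rfl⟩ := tA z hz.1 z1 a ha a1
  exact (h.cj n).sol (cj_inf n A B ▸ conj_mem_cj n hz) a1

theorem core (hO : oddCore G = ⊥) (tA : Tr A) (tB : Tr B) (hz : z ∈ A ⊓ B) (z1 : z ≠ 1) : Op' 2 C1[z] = ⊥ := by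
  have := Nat.fact_prime_two
  have eA := Wf_eq h.eA h.cA (fun a => h.solA tA) inf_le_left h.cZ
  have eB := Wf_eq h.eB h.cB (fun a => h.symm.solA tB) inf_le_right h.cZ
  have o := (sig h.eA h.cA fun a => h.solA tA).1
  have nA : N[A] ≤ N[Wf A] := norm_Wf
  have nB : N[B] ≤ N[Wf A] := by rw [eA, ← eB]; exact norm_Wf
  have k : ∀ t ∈ T, orderOf t = 2 → ∃ n ∈ N[Wf A], n * z * n⁻¹ = t := fun t ht t2 =>
    (h.inv t ht (sq_of_ord t2)).elim (fun e => (tA z hz.1 z1 t e (ne_one_of_ord t2)).imp fun _ h => ⟨nA h.1, h.2⟩)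
      fun e => (tB z hz.2 z1 t e (ne_one_of_ord t2)).imp fun _ h => ⟨nB h.1, h.2⟩
  refine le_bot_iff.1 ((le_Wf hz.1 z1).trans_eq ?_)
  rcases se (M := N[Wf A]) h.syl (h.TN.trans nA) (h.AT hz.1) (EA.ord h.eA hz.1 z1) (fun t ht t2 g hg => by
    obtain ⟨n, hn, rfl⟩ := k t ht t2
    obtain ⟨m, hm, e⟩ := k _ hg ((orderOf_conj' g _).trans t2)
    have : m⁻¹ * (g * n) ∈ C1[z] := mem_cent1.2 (by
      calc _ = m⁻¹ * (g * (n * z * n⁻¹) * g⁻¹) * (g * n) := by group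
        _ = _ := by rw [← e]; group)
    exact (mul_mem_cancel_right hn).1 ((mul_mem_cancel_left (inv_mem hm)).1
      (((h.centle hz z1).trans (sup_le ((le_Wf hz.1 z1).trans (normG _)) (h.NT.trans nA))) this))) with e | e
  · exact odd_bot hO (normal_refl ⊤) ⟨le_top, e.ge⟩ o
  · have := S1221.result _ e
    rw [← Op'_eq, hO] at this
    exact le_bot_iff.1 ((pcore_max (normalG _) (pnat_odd.2 o)).trans this)

theorem hC (hO : oddCore G = ⊥) (tA : Tr A) (tB : Tr B) (hz : z ∈ A ⊓ B) (z1 : z ≠ 1) : C1[z] ≤ N[T] := by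
  have := h.centle hz z1
  rwa [h.core hO tA tB hz z1, bot_sup_eq] at this

theorem cAle (hO : oddCore G = ⊥) (tA : Tr A) (tB : Tr B) : C[A] ≤ A := by
  have := Nat.fact_prime_two
  obtain ⟨z, hz, z1⟩ := h.exZ
  obtain ⟨c, hc, cB⟩ := SetLike.not_le_iff_exists.1 h.nle
  have s : SylowIn 2 A C[A] := by
    have := Sylow_setI_normal (cent_normal A) h.sA
    rwa [show C[A] ⊓ T = A from le_antisymm (fun t ht => h.cenA hc cB ht.2 (mem_cent1.1 (cent_le_cent1 hc ht.1)))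
      (le_inf (EA.cent h.eA) h.AT)] at this
  have b := (Burnside_normal_complement s inf_le_left).sup
  have : Op' 2 C[A] ≤ Op' 2 C1[z] := pcore_max ⟨(pcore_sub _ _).trans (cent_le_cent1 hz.1),
    norms_pcore _ (norms_cent ((h.hC hO tA tB hz z1).trans h.NT))⟩ (pcore_pgroup _ _)
  rw [h.core hO tA tB hz z1, le_bot_iff] at this
  rw [← b, this, bot_sup_eq]

theorem cases (hO : oddCore G = ⊥) : A.Normal ∨ B.Normal ∨ (Tr A ∧ Tr B) :=
  h.tr_or.elim (fun tA => h.symm.tr_or.elim (fun tB => .inr (.inr ⟨tA, tB⟩))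
    fun e => .inl (h.normal hO (h.symm.strong e))) fun e => .inr (.inl (h.symm.normal hO (h.strong e)))

end Fr

end Cfsg.Agent.L34S
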